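import Groth.Prelude.Def_GLin4
import Mathlib.RingTheory.Localization.Away.Basic
import Mathlib.RingTheory.MvPolynomial.Homogeneous
import Mathlib.LinearAlgebra.Matrix.MvPolynomial

/-!
The coordinate ring of the general linear group over a field is a domain.
-/

set_option autoImplicit false

universe u

namespace Groth.Agent.H60.TorsQuot

theorem isDomain_GLn (k : Type u) [Field k] (n : ℕ) : IsDomain (CoordGrp.GLn n k) := by
  classical
  let R := MvPolynomial (Fin n × Fin n) k
  let d : R := (Matrix.mvPolynomialX (Fin n) (Fin n) k).det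
  have hd : d ≠ 0 := Matrix.det_mvPolynomialX_ne_zero _ _
  let L := Localization.Away d
  haveI : IsDomain L := IsLocalization.isDomain_localization (powers_le_nonZeroDivisors_of_noZeroDivisors hd)
  let f : R →ₐ[k] L := IsScalarTower.toAlgHom k R L
  let M : Matrix (Fin n) (Fin n) L := f.mapMatrix (Matrix.mvPolynomialX (Fin n) (Fin n) k)
  have hM : M.det * IsLocalization.Away.invSelf d = 1 := by
    rw [show M.det = algebraMap R L d from (AlgHom.map_det f _).symm]
    exact IsLocalization.Away.mul_invSelf d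
  let φ : CoordGrp.GLn n k →ₐ[k] L := CoordGrp.GLn.pt n k M (IsLocalization.Away.invSelf d) hM
  let g : R →ₐ[k] CoordGrp.GLn n k := MvPolynomial.aeval fun p => CoordGrp.GLn.X p.1 p.2
  have hgd : g d = CoordGrp.GLn.det := by
    rw [CoordGrp.GLn.det_eq, AlgHom.map_det]
    congr 1
    ext i j
    simp [g, CoordGrp.GLn.genMat, Matrix.mvPolynomialX]
    exact MvPolynomial.aeval_X _ _
  have hu : IsUnit (g.toRingHom d) := by
    show IsUnit (g d)
    rw [hgd]
    exact IsUnit.of_mul_eq_one _ CoordGrp.GLn.det_mul_Dinv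
  let ψ : L →+* CoordGrp.GLn n k := IsLocalization.Away.lift d hu
  have hψ : ∀ r, ψ (algebraMap R L r) = g r := fun r => IsLocalization.Away.lift_eq d hu r
  have hc : ∀ c : k, ψ (algebraMap k L c) = algebraMap k (CoordGrp.GLn n k) c := fun c => by
    rw [IsScalarTower.algebraMap_apply k R L]
    exact (hψ _).trans (g.commutes c)
  let ψ' : L →ₐ[k] CoordGrp.GLn n k := AlgHom.mk ψ hc
  have hX : ∀ i j, ψ' (φ (CoordGrp.GLn.X i j)) = CoordGrp.GLn.X i j := fun i j => by
    rw [CoordGrp.GLn.pt_X]
    show ψ (algebraMap R L (Matrix.mvPolynomialX (Fin n) (Fin n) k i j)) = _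
    rw [hψ]
    simp [g, Matrix.mvPolynomialX]
    exact MvPolynomial.aeval_X _ _
  have h : ψ'.comp φ = AlgHom.id k (CoordGrp.GLn n k) := by
    refine CoordGrp.GLn.algHom_ext hX ?_
    have e : ψ' (φ CoordGrp.GLn.det) = CoordGrp.GLn.det := by
      rw [CoordGrp.GLn.det_eq, AlgHom.map_det, AlgHom.map_det]
      congr 1
      ext i j
      exact hX i j
    have h1 := congrArg (fun z => ψ' (φ z)) (CoordGrp.GLn.det_mul_Dinv (n := n) (k := k))
    simp only [map_mul, map_one, e] at h1
    exact left_inv_eq_right_inv (by rw [mul_comm]; exact h1) CoordGrp.GLn.det_mul_Dinv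
  have hinj : Function.Injective φ := Function.LeftInverse.injective (g := ψ') fun x => congr($h x)
  exact hinj.isDomain φ.toRingHom

end Groth.Agent.H60.TorsQuot
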