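import Groth.Agent.H60.TorsQuot.Fiber
import Groth.Agent.H60.TorsQuot.GLDomain
import Groth.Agent.Lib.GrpSch.TorsorMap
import Groth.Agent.Lib.GrpQ.MonoClosed
import Groth.Agent.Lib.EtaleSection.Sections
import Groth.Agent.Lib.GrpSch.SmoothReduced
import Groth.Agent.H14.GenEt.Scheme
import Groth.Agent.H60.RedLR.Reductive
import Groth.Agent.Lib.Homog.Smooth

/-!
Torsors under affine algebraic groups in characteristic zero are locally isotrivial.
-/

set_option autoImplicit false
set_option backward.isDefEq.respectTransparency false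

universe u

open CategoryTheory CategoryTheory.Limits MonoidalCategory CartesianMonoidalCategory MonObj AlgebraicGeometry
open Groth.Agent.Lib Groth.Agent.Lib.GrpQ Groth.Agent.Lib.GrpQ.MonoClosed TopologicalSpace
open Groth.Agent.H60.GlueQ (sub incl Stable resAct)

namespace Groth.Agent.H60.TorsQuot

noncomputable section

/-- A smooth surjection from an irreducible scheme has a section over a finite étale covering of a nonempty open. -/
theorem exists_generic_section {X Y : Scheme.{u}} (p : X ⟶ Y) [Smooth p] [Surjective p] [IrreducibleSpace X]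
    [IsReduced Y] [IsLocallyNoetherian Y] :
    ∃ (T P : Scheme.{u}) (j : T ⟶ Y) (f : P ⟶ T) (s : P ⟶ X), IsOpenImmersion j ∧ Nonempty T ∧ IsFinite f ∧
      Etale f ∧ Surjective f ∧ s ≫ p = f ≫ j := by
  haveI : Nonempty Y := (inferInstance : Nonempty X).map p
  haveI : PreirreducibleSpace Y := ⟨by
    have := (PreirreducibleSpace.isPreirreducible_univ (X := X)).image p p.continuous.continuousOn
    rwa [Set.image_univ, p.surjective.range_eq] at this⟩
  haveI : IrreducibleSpace Y := ⟨inferInstance⟩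
  obtain ⟨S', g, h, hg, hgs, hh⟩ := EtaleSection.Sections.exists_etale_surjective_section p
  obtain ⟨y⟩ := (inferInstance : Nonempty Y)
  obtain ⟨V, hV, hyV, -⟩ := exists_isAffineOpen_mem_and_subset (U := (⊤ : Y.Opens)) (x := y) trivial
  obtain ⟨x, hx⟩ := hgs.surj y
  obtain ⟨X₀, hX₀, hxX, hXle⟩ := exists_isAffineOpen_mem_and_subset (U := g ⁻¹ᵁ V) (x := x)
    (show g x ∈ V from hx.symm ▸ hyV)
  haveI : IsAffine V.toScheme := hV
  haveI : IsAffine X₀.toScheme := hX₀
  haveI : Nonempty V.toScheme := ⟨⟨y, hyV⟩⟩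
  let f₀ : X₀.toScheme ⟶ V.toScheme := g.resLE V X₀ hXle
  haveI : Etale f₀ := inferInstance
  haveI : IsReduced V.toScheme := isReduced_of_isOpenImmersion V.ι
  haveI : IsLocallyNoetherian V.toScheme := isLocallyNoetherian_of_isOpenImmersion V.ι
  obtain ⟨T, j, hj, hT, -, hfin, het⟩ := H14.GenEt.exists_finite_etale f₀
  haveI := hj; haveI := hfin; haveI := het
  haveI : IsOpenImmersion (j ≫ V.ι) := inferInstance
  haveI : PreirreducibleSpace T := ⟨by
    have := (PreirreducibleSpace.isPreirreducible_univ (X := Y)).preimage (j ≫ V.ι).isOpenEmbedding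
    simpa using this⟩
  let q := pullback.snd f₀ j
  have hne : (Set.range q).Nonempty := by
    have hopen : IsOpen (Set.range f₀) := f₀.isOpenMap.isOpen_range
    have h1 : IsOpen (V.ι '' Set.range f₀) := V.ι.isOpenEmbedding.isOpenMap _ hopen
    obtain ⟨t⟩ := hT
    obtain ⟨z, ⟨v, ⟨a, rfl⟩, hv⟩, ⟨t', ht'⟩⟩ := nonempty_preirreducible_inter h1
      (j ≫ V.ι).isOpenEmbedding.isOpen_range ⟨_, f₀ ⟨x, hxX⟩, ⟨_, rfl⟩, rfl⟩ ⟨_, t, rfl⟩
    have e : f₀ a = j t' := by
      apply V.ι.isOpenEmbedding.injective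
      rw [hv, ← ht', Scheme.Hom.comp_apply]
    obtain ⟨w, -, hw⟩ := Scheme.Pullback.exists_preimage_pullback a t' e
    exact ⟨t', w, hw⟩
  haveI : Surjective q := by
    have hclopen : IsClopen (Set.range q) := ⟨q.isClosedMap.isClosed_range, q.isOpenMap.isOpen_range⟩
    rcases isClopen_iff.1 hclopen with h0 | h1
    · exact absurd h0 hne.ne_empty
    · exact ⟨Set.range_eq_univ.1 h1⟩
  refine ⟨T, pullback f₀ j, j ≫ V.ι, q, pullback.fst f₀ j ≫ X₀.ι ≫ h, inferInstance, hT, hfin, het, inferInstance, ?_⟩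
  rw [Category.assoc, Category.assoc, hh, ← Scheme.Hom.resLE_comp_ι g hXle, pullback.condition_assoc]

variable {k : Type u} [Field k] [IsAlgClosed k]

local notation "𝒮" => Over (Spec (CommRingCat.of k))

/-- The quotient map of a smooth irreducible group has finite étale sections near every point. -/
theorem exists_isotrivial_quot {G' H Q' : 𝒮} [GrpObj G'] [GrpObj H] [IrreducibleSpace G'.left]
    (i : H ⟶ G') [IsMonHom i] (p : G' ⟶ Q') [Smooth p.left] [Surjective p.left] [QuasiCompact p.left]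
    (hp : IsPullback ((i ▷ G') ≫ μ[G']) (snd H G') p p) [LocallyOfFiniteType Q'.hom] [IsReduced Q'.left]
    [LocallyOfFiniteType G'.hom] (q : Q'.left) :
    ∃ (U : Q'.left.Opens) (_ : q ∈ U) (U' : Scheme.{u}) (f : U' ⟶ U.toScheme) (_ : IsFinite f) (_ : Etale f)
      (_ : Surjective f) (s : U' ⟶ G'.left), s ≫ p.left = f ≫ U.ι := by
  haveI : IsLocallyNoetherian Q'.left := LocallyOfFiniteType.isLocallyNoetherian Q'.hom
  haveI : JacobsonSpace G'.left := LocallyOfFiniteType.jacobsonSpace G'.hom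
  haveI : JacobsonSpace Q'.left := LocallyOfFiniteType.jacobsonSpace Q'.hom
  obtain ⟨T, P, j, f, s, hj, hT, hf, hfe, hfs, hs⟩ := exists_generic_section p.left
  haveI := hj; haveI := hf; haveI := hfe; haveI := hfs
  obtain ⟨t⟩ := hT
  obtain ⟨g₀, hg₀⟩ := exists_ptOf (X := G') (s := p.left ⁻¹' Set.range j)
    (j.isOpenEmbedding.isOpen_range.preimage p.left.continuous).isLocallyClosed
    (let ⟨x, hx⟩ := p.left.surjective (j t); ⟨x, t, hx.symm⟩)
  obtain ⟨g₁, hg₁⟩ := exists_ptOf (X := G') (s := p.left ⁻¹' closure {q})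
    (isClosed_closure.preimage p.left.continuous).isLocallyClosed
    (let ⟨x, hx⟩ := p.left.surjective q; ⟨x, show p.left x ∈ closure {q} from hx ▸ subset_closure rfl⟩)
  -- right translations
  let aL : AlgGrp.Action H G' := (NonAbH1.trivialAction G').restrict i
  have haL : ∀ {W : 𝒮} (h : W ⟶ H) (g : W ⟶ G'), lift h g ≫ aL.act = (h ≫ i) * g := fun h g => by
    rw [AlgGrp.Action.lift_restrict_act]; rfl
  have hcartL : IsPullback aL.act (snd H G') p p := by
    rw [show aL.act = (i ▷ G') ≫ μ[G'] from AlgGrp.Action.hom_ext_lift₂ fun W h g => by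
      rw [haL, lift_whiskerRight_assoc, ← Hom.mul_def]]
    exact hp
  have hlocL : ∃ R ∈ Scheme.fpqcPrecoverage Q'.left, ∀ ⦃S' : Scheme.{u}⦄ (m : S' ⟶ Q'.left), R m →
      NonAbH1.HasSectionOver (Over.mk p.left : Over Q'.left) m :=
    ⟨_, p.left.singleton_mem_fpqcPrecoverage, by rintro _ _ ⟨⟩; exact ⟨𝟙 _, Category.id_comp _⟩⟩
  let Rm : (𝟙_ 𝒮 ⟶ G') → (G' ⟶ G') := fun c => 𝟙 G' * (toUnit G' ≫ c)
  have hRm : ∀ (c : 𝟙_ 𝒮 ⟶ G') {W : 𝒮} (g : W ⟶ G'), g ≫ Rm c = g * (toUnit W ≫ c) := fun c W g => by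
    simp only [Rm, MonObj.comp_mul, Category.comp_id, ← Category.assoc, comp_toUnit]
  have hdesc : ∀ c, ∃ r : Q' ⟶ Q', p ≫ r = Rm c ≫ p := fun c => by
    obtain ⟨χ, hχ, -⟩ := (TorsorCat.isCatQuot aL p hcartL hlocL).2 _ (Rm c ≫ p)
      (AlgGrp.Action.hom_ext_lift₂ fun W h g => by
        have e := congrArg (lift h (g * (toUnit W ≫ c)) ≫ ·) hcartL.w
        simp only [lift_snd_assoc] at e
        rw [← Category.assoc, haL] at e
        rw [← Category.assoc, haL, lift_snd_assoc, ← Category.assoc, hRm, ← Category.assoc g, hRm,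
          _root_.mul_assoc]
        exact e)
    exact ⟨χ, hχ⟩
  choose r hr using hdesc
  have hcomp : ∀ c c' : 𝟙_ 𝒮 ⟶ G', r c ≫ r c' = r (c * c') := fun c c' => by
    obtain ⟨χ, -, hu⟩ := (TorsorCat.isCatQuot aL p hcartL hlocL).2 _ (Rm (c * c') ≫ p)
      (by
        rw [← hr (c * c')]
        show aL.act ≫ _ = _
        rw [← Category.assoc, hcartL.w, Category.assoc])
    refine (hu _ ?_).trans (hu _ (hr _)).symm
    show p ≫ r c ≫ r c' = _
    rw [reassoc_of% hr c, hr c', ← Category.assoc]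
    congr 1
    rw [hRm]
    simp only [Rm, MonObj.comp_mul, _root_.mul_assoc]
  have hone : r 1 = 𝟙 Q' := by
    obtain ⟨χ, -, hu⟩ := (TorsorCat.isCatQuot aL p hcartL hlocL).2 _ p hcartL.w
    refine (hu _ ?_).trans (hu _ (Category.comp_id _)).symm
    show p ≫ r 1 = p
    rw [hr, show Rm 1 = 𝟙 G' by simp only [Rm, MonObj.comp_one, _root_.mul_one], Category.id_comp]
  let c := g₀⁻¹ * g₁
  let e : Q' ≅ Q' := ⟨r c, r c⁻¹, by rw [hcomp, mul_inv_cancel, hone], by rw [hcomp, inv_mul_cancel, hone]⟩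
  haveI : IsIso (r c).left := ((Over.forget _).mapIso e).isIso_hom
  let j' : T ⟶ Q'.left := j ≫ (r c).left
  haveI : IsOpenImmersion j' := inferInstance
  have hmem : p.left (ptOf g₁) ∈ j'.opensRange := by
    obtain ⟨t', ht'⟩ := hg₀
    refine ⟨t', ?_⟩
    show (j ≫ (r c).left) t' = _
    rw [Scheme.Hom.comp_apply, ht', ← Scheme.Hom.comp_apply, ← Over.comp_left, hr, ptOf_comp, ptOf_comp,
      ← Category.assoc, hRm, toUnit_unique (toUnit (𝟙_ 𝒮)) (𝟙 _), Category.id_comp, mul_inv_cancel_left]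
  refine ⟨j'.opensRange, (specializes_iff_mem_closure.2 hg₁).mem_open j'.opensRange.2 hmem, P,
    f ≫ j'.isoOpensRange.hom, inferInstance, inferInstance, inferInstance, s ≫ (Rm c).left, ?_⟩
  rw [Category.assoc, Category.assoc, Scheme.Hom.isoOpensRange_hom_ι, ← Over.comp_left, ← hr, Over.comp_left,
    reassoc_of% hs]

/-- Torsors are locally isotrivial. -/
theorem exists_isotrivial [CharZero k] {G X Y : 𝒮} [GrpObj G] [IsAffine G.left] [LocallyOfFiniteType G.hom]
    (a : AlgGrp.Action G X) (φ : X ⟶ Y) (hcart : IsPullback a.act (snd G X) φ φ)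
    (hloc : NonAbH1.IsLocallyTrivialFor Scheme.fpqcPrecoverage (Over.mk φ.left : Over Y.left)) (y : Y.left) :
    ∃ (U : Y.left.Opens) (_ : y ∈ U) (U' : Scheme.{u}) (f : U' ⟶ U.toScheme)
      (_ : IsFinite f) (_ : Etale f) (_ : Surjective f), ∃ s : U' ⟶ X.left, s ≫ φ.left = f ≫ U.ι := by
  haveI : IsAffineHom G.hom := isAffineHom_of_isAffine _
  haveI : IsAffineHom φ.left := TorsorGeom.isAffineHom a φ hcart hloc
  haveI : Flat φ.left := AssocBundle.of_group a φ hcart @Flat hloc inferInstance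
  have hgeo := TorsorGeom.isGeomQuot a φ hcart hloc
  haveI : Surjective φ.left := ⟨hgeo.surj⟩
  obtain ⟨n, ρ, hρ, hρc⟩ := exists_embedding G
  haveI := hρ
  haveI := hρc
  haveI : Smooth G.hom := by
    obtain ⟨A, _, _, eA, _⟩ := H1.Hopf.exists_iso G
    haveI : IsIso eA.inv.left := ((Over.forget _).mapIso eA).isIso_inv
    haveI : IsIso eA.hom.left := ((Over.forget _).mapIso eA).isIso_hom
    haveI : Algebra.FiniteType k A := H1.Hopf.finiteType_of_locallyOfFiniteType
      (by rw [← Over.w eA.inv]; infer_instance)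
    rw [← Over.w eA.hom]
    haveI : Smooth ((Spec (CommRingCat.of A)).asOver (Spec (CommRingCat.of k))).hom :=
      H60.RedLR.smooth_of_charZero (k := k) (A := A)
    infer_instance
  let G' := AffQ.sp k (CoordGrp.GLn n k)
  haveI : Smooth G'.hom := by
    show Smooth (Spec.map (CommRingCat.ofHom (algebraMap k (CoordGrp.GLn n k))))
    rw [HasRingHomProperty.Spec_iff (P := @Smooth)]
    haveI := Homog.smooth_GLn (k := k) n
    exact RingHom.smooth_algebraMap.2 inferInstance
  haveI : IrreducibleSpace G'.left := by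
    haveI := isDomain_GLn k n
    exact inferInstanceAs (IrreducibleSpace (PrimeSpectrum (CoordGrp.GLn n k)))
  haveI : IsAffineHom G'.hom := isAffineHom_of_isAffine _
  obtain ⟨Q', p, hsep, hlft, hsurj, hflat, -, hp, -, hQqc, hQsm, -⟩ :=
    Groth.Agent.S5351.result k G G' ρ
  haveI := hlft; haveI := hsurj; haveI := hflat
  haveI : QuasiCompact Q'.hom := hQqc inferInstance
  haveI : Smooth Q'.hom := hQsm inferInstance
  haveI : IsReduced Q'.left := GrpSch.isReduced_of_smooth_field Q'.hom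
  haveI : QuasiCompact (p.left ≫ Q'.hom) := by rw [Over.w]; infer_instance
  haveI : IsLocallyNoetherian Q'.left := LocallyOfFiniteType.isLocallyNoetherian Q'.hom
  haveI : QuasiCompact p.left := QuasiCompact.of_comp p.left Q'.hom
  let aL : AlgGrp.Action G G' := (NonAbH1.trivialAction G').restrict ρ
  have haL : ∀ {W : 𝒮} (g : W ⟶ G) (x : W ⟶ G'), lift g x ≫ aL.act = (g ≫ ρ) * x := fun g x => by
    rw [AlgGrp.Action.lift_restrict_act]; rfl
  have hcartL : IsPullback aL.act (snd G G') p p := by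
    rw [show aL.act = (ρ ▷ G') ≫ μ[G'] from AlgGrp.Action.hom_ext_lift₂ fun W h g => by
      rw [haL, lift_whiskerRight_assoc, ← Hom.mul_def]]
    exact hp
  have hlocp : NonAbH1.IsLocallyTrivialFor Scheme.fpqcPrecoverage (Over.mk p.left : Over Q'.left) :=
    ⟨_, p.left.singleton_mem_fpqcPrecoverage, by rintro _ _ ⟨⟩; exact ⟨𝟙 _, Category.id_comp _⟩⟩
  haveI : Smooth p.left := AssocBundle.of_group aL p hcartL @Smooth hlocp inferInstance
  obtain ⟨W, hyW, F, hF⟩ := exists_nhd ρ a φ hcart hgeo y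
  have hpb := isPullback_morphismRestrict φ.left W.1
  haveI : Flat (mapPre φ W.1).left := MorphismProperty.of_isPullback hpb.flip ‹Flat φ.left›
  haveI : Surjective (mapPre φ W.1).left := MorphismProperty.of_isPullback hpb.flip ‹Surjective φ.left›
  haveI : QuasiCompact (mapPre φ W.1).left :=
    MorphismProperty.of_isPullback hpb.flip (inferInstance : QuasiCompact φ.left)
  have hcW := isPullback_mapPre a φ hcart W.1
  let b := resAct a (pre φ W.1) (stable_pre a φ hcart.w W.1)
  have hFe : b.act ≫ F = (G ◁ F) ≫ aL.act := AlgGrp.Action.hom_ext_lift₂ fun T g x => by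
    rw [← Category.assoc, hF, lift_whiskerLeft_assoc, haL]
  obtain ⟨c, hc, -⟩ := (TorsorCat.isCatQuot b (mapPre φ W.1) hcW
    ⟨_, (mapPre φ W.1).left.singleton_mem_fpqcPrecoverage, by rintro _ _ ⟨⟩; exact ⟨𝟙 _, Category.id_comp _⟩⟩).2 _
    (F ≫ p) (by
      show b.act ≫ F ≫ p = snd G _ ≫ F ≫ p
      rw [reassoc_of% hFe, hcartL.w, whiskerLeft_snd_assoc])
  have sq : IsPullback F.left (mapPre φ W.1).left p.left c.left :=
    GrpSch.isPullback_of_torsorMap b aL (mapPre φ W.1) p (hcW.map (Over.forget _)) (hcartL.map (Over.forget _))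
      F hFe c hc
  obtain ⟨U, hU, U', f, hf, hfe, hfs, s, hs⟩ := exists_isotrivial_quot ρ p hp (c.left ⟨y, hyW⟩)
  haveI := hf; haveI := hfe; haveI := hfs
  let W' : W.1.toScheme.Opens := c.left ⁻¹ᵁ U
  let f' := pullback.fst (c.left ∣_ U) f
  haveI : IsFinite f' := MorphismProperty.pullback_fst _ _ hf
  haveI : Etale f' := MorphismProperty.pullback_fst _ _ hfe
  haveI : Surjective f' := MorphismProperty.pullback_fst _ _ hfs
  obtain ⟨l, -, hl⟩ := sq.exists_lift (pullback.snd (c.left ∣_ U) f ≫ s) (f' ≫ W'.ι) (by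
    rw [Category.assoc, hs, Category.assoc, ← pullback.condition_assoc, morphismRestrict_ι])
  have hl' : l ≫ (φ.left ∣_ W.1) = f' ≫ W'.ι := hl
  refine ⟨W.1.ι ''ᵁ W', ⟨⟨y, hyW⟩, hU, rfl⟩, _, f' ≫ (W.1.ι.isoImage W').hom, inferInstance, inferInstance,
    inferInstance, l ≫ (pre φ W.1).ι, ?_⟩
  rw [Category.assoc, ← morphismRestrict_ι, reassoc_of% hl', Category.assoc, Scheme.Hom.isoImage_hom_ι]

end

end Groth.Agent.H60.TorsQuot
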