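import Groth.Agent.H60.TorsQuot.Main
import Groth.Agent.Lib.DescAlg.Descends
import Groth.Agent.H60.AssocBundle

/-!
The fibres of the quotient of a torsor by a subgroup.
-/

set_option autoImplicit false
set_option backward.isDefEq.respectTransparency false

universe u

open CategoryTheory CategoryTheory.Limits MonoidalCategory CartesianMonoidalCategory MonObj AlgebraicGeometry
open Groth.Agent.Lib

namespace Groth.Agent.H60.TorsQuot

noncomputable section

variable {S : Scheme.{u}} {G H GH X Y : Over S} [GrpObj G] [GrpObj H]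

/-- The quotient of the torsor is the bundle with fibre the quotient of the group. -/
theorem exists_fiber (i : H ⟶ G) [IsMonHom i] (pG : G ⟶ GH) [Flat pG.left] [Surjective pG.left]
    [QuasiCompact pG.left] (hpG : IsPullback ((i ▷ G) ≫ μ[G]) (snd H G) pG pG) (a : AlgGrp.Action G X)
    (φ : X ⟶ Y) (hcart : IsPullback a.act (snd G X) φ φ) (D : Quot i a φ) :
    ∃ ω : GH ⊗ X ⟶ D.Z, IsPullback ω.left (snd GH X).left D.ψ.left φ.left := by
  let q₁ := (pG ▷ X).left
  haveI : Flat q₁ := GrpSch.whiskerRight_left_of (P := @Flat) pG X inferInstance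
  haveI : Surjective q₁ := GrpSch.whiskerRight_left_of (P := @Surjective) pG X inferInstance
  haveI : QuasiCompact q₁ := GrpSch.whiskerRight_left_of (P := @QuasiCompact) pG X inferInstance
  have hinv : ∀ {T : Over S} (h : T ⟶ H) (g : T ⟶ G), ((h ≫ i) * g) ≫ pG = g ≫ pG := fun {T} h g => by
    have hw := congrArg (lift h g ≫ ·) hpG.w
    simp only [lift_snd_assoc, lift_whiskerRight_assoc, Category.assoc] at hw
    rwa [← Category.assoc, ← Hom.mul_def] at hw
  have hf : ∀ {T : Scheme.{u}} (v₁ v₂ : T ⟶ (G ⊗ X).left), v₁ ≫ q₁ = v₂ ≫ q₁ →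
      v₁ ≫ (a.act ≫ D.q).left = v₂ ≫ (a.act ≫ D.q).left := by
    intro T v₁ v₂ e
    let To : Over S := Over.mk (v₁ ≫ (G ⊗ X).hom)
    have e2 : v₂ ≫ (G ⊗ X).hom = v₁ ≫ (G ⊗ X).hom := by
      rw [← Over.w (pG ▷ X)]
      exact ((Category.assoc _ _ _).symm.trans (congrArg (· ≫ (GH ⊗ X).hom) e.symm)).trans (Category.assoc _ _ _)
    let u₁ : To ⟶ G ⊗ X := Over.homMk v₁ rfl
    let u₂ : To ⟶ G ⊗ X := Over.homMk v₂ e2
    have e' : u₁ ≫ (pG ▷ X) = u₂ ≫ (pG ▷ X) := Over.OverMorphism.ext e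
    have h1 := congrArg (· ≫ fst GH X) e'
    have h2 := congrArg (· ≫ snd GH X) e'
    simp only [Category.assoc, whiskerRight_fst] at h1
    simp only [Category.assoc, whiskerRight_snd] at h2
    obtain ⟨t, ht1, ht2⟩ := hpG.exists_lift (u₁ ≫ fst G X) (u₂ ≫ fst G X) (by simpa only [Category.assoc] using h1)
    have et : t = lift (t ≫ fst H G) (u₂ ≫ fst G X) := by
      ext1
      · rw [lift_fst]
      · exact ht2.trans (lift_snd _ _).symm
    rw [et, lift_whiskerRight_assoc, ← Hom.mul_def] at ht1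
    have eu : u₁ ≫ a.act = lift (t ≫ fst H G) (u₂ ≫ a.act) ≫ (a.restrict i).act := by
      have e₁ : u₁ = lift (u₁ ≫ fst G X) (u₂ ≫ snd G X) := by
        ext1
        · rw [lift_fst]
        · rw [lift_snd]; exact h2
      have e₂ : u₂ = lift (u₂ ≫ fst G X) (u₂ ≫ snd G X) := by ext1 <;> simp
      conv_lhs => rw [e₁, ← ht1]
      conv_rhs => rw [e₂]
      rw [AlgGrp.Action.lift_restrict_act, AlgGrp.Action.lift_mul_act]
    have := congrArg (· ≫ D.q) eu
    simp only [Category.assoc, D.cart.w, lift_snd_assoc] at this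
    exact congrArg (fun m => m.left) this
  let ω₀ : (GH ⊗ X).left ⟶ D.Z.left := EffectiveEpi.desc q₁ (a.act ≫ D.q).left fun v₁ v₂ e => hf v₁ v₂ e
  have hω₀ : q₁ ≫ ω₀ = (a.act ≫ D.q).left := EffectiveEpi.fac q₁ _ fun v₁ v₂ e => hf v₁ v₂ e
  let ω : GH ⊗ X ⟶ D.Z := Over.homMk ω₀ (by
    rw [← cancel_epi q₁, reassoc_of% hω₀, Over.w (a.act ≫ D.q)]
    exact (Over.w (pG ▷ X)).symm)
  have hω : (pG ▷ X) ≫ ω = a.act ≫ D.q := Over.OverMorphism.ext hω₀
  have hωψ : ω.left ≫ D.ψ.left = (snd GH X).left ≫ φ.left := by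
    rw [← cancel_epi q₁]
    exact congrArg (fun m => m.left) (show (pG ▷ X) ≫ ω ≫ D.ψ = (pG ▷ X) ≫ snd GH X ≫ φ by
      rw [reassoc_of% hω, D.fac, hcart.w, whiskerRight_snd_assoc])
  let gam : (GH ⊗ X).left ⟶ pullback D.ψ.left φ.left := pullback.lift ω.left (snd GH X).left hωψ
  have hsq : IsPullback (q₁ ≫ gam) a.act.left (pullback.fst D.ψ.left φ.left) D.q.left := by
    refine IsPullback.of_right ?_ ?_ (IsPullback.of_hasPullback D.ψ.left φ.left).flip
    · rw [Category.assoc, pullback.lift_snd, ← Over.comp_left, ← Over.comp_left, whiskerRight_snd, D.fac]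
      exact (hcart.map (Over.forget S)).flip
    · rw [Category.assoc, pullback.lift_fst]
      exact hω₀
  haveI : Flat (q₁ ≫ gam) := MorphismProperty.of_isPullback hsq.flip D.flat
  haveI : Surjective (q₁ ≫ gam) := MorphismProperty.of_isPullback hsq.flip D.surj
  haveI : QuasiCompact (q₁ ≫ gam) := MorphismProperty.of_isPullback hsq.flip D.qc
  have hcoeq : ∀ {T : Scheme.{u}} (v₁ v₂ : T ⟶ (G ⊗ X).left),
      v₁ ≫ q₁ ≫ gam = v₂ ≫ q₁ ≫ gam → v₁ ≫ q₁ = v₂ ≫ q₁ := by
    intro T v₁ v₂ e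
    have e1 := congrArg (· ≫ pullback.fst D.ψ.left φ.left) e
    have e2 := congrArg (· ≫ pullback.snd D.ψ.left φ.left) e
    simp only [Category.assoc, gam, pullback.lift_fst] at e1
    simp only [Category.assoc, gam, pullback.lift_snd] at e2
    have eh : v₂ ≫ (G ⊗ X).hom = v₁ ≫ (G ⊗ X).hom := by
      have h := congrArg (· ≫ X.hom) e2.symm
      simp only [Category.assoc, Over.w] at h
      rw [← Over.w (pG ▷ X)]
      exact h
    let To : Over S := Over.mk (v₁ ≫ (G ⊗ X).hom)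
    let u₁ : To ⟶ G ⊗ X := Over.homMk v₁ rfl
    let u₂ : To ⟶ G ⊗ X := Over.homMk v₂ eh
    have hs : u₁ ≫ snd G X = u₂ ≫ snd G X := by
      rw [← whiskerRight_snd pG X]
      exact Over.OverMorphism.ext e2
    have hq : (u₁ ≫ a.act) ≫ D.q = (u₂ ≫ a.act) ≫ D.q := by
      rw [Category.assoc, Category.assoc, ← hω]
      exact Over.OverMorphism.ext e1
    obtain ⟨t, ht1, ht2⟩ := D.cart.exists_lift (u₁ ≫ a.act) (u₂ ≫ a.act) hq
    have et : t = lift (t ≫ fst H X) (u₂ ≫ a.act) := by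
      ext1
      · rw [lift_fst]
      · exact ht2.trans (lift_snd _ _).symm
    rw [et, AlgGrp.Action.lift_restrict_act] at ht1
    have e₁ : u₁ = lift (u₁ ≫ fst G X) (u₂ ≫ snd G X) := by
      ext1
      · rw [lift_fst]
      · rw [lift_snd, hs]
    have e₂ : u₂ = lift (u₂ ≫ fst G X) (u₂ ≫ snd G X) := by ext1 <;> simp
    have hg : ((t ≫ fst H X) ≫ i) * (u₂ ≫ fst G X) = u₁ ≫ fst G X := by
      refine TorsorComp.act_inj a φ hcart (x := u₂ ≫ snd G X) ?_
      conv_rhs => rw [← e₁, ← ht1]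
      conv_rhs => rw [e₂]
      rw [AlgGrp.Action.lift_mul_act]
    exact congrArg (fun m => m.left) (show u₁ ≫ (pG ▷ X) = u₂ ≫ (pG ▷ X) by
      ext1
      · simp only [Category.assoc, whiskerRight_fst]
        rw [← Category.assoc, ← hg, hinv, Category.assoc]
      · simp only [Category.assoc, whiskerRight_snd, hs])
  let δ : pullback D.ψ.left φ.left ⟶ (GH ⊗ X).left :=
    EffectiveEpi.desc (q₁ ≫ gam) q₁ fun v₁ v₂ e => hcoeq v₁ v₂ e
  have hδ : (q₁ ≫ gam) ≫ δ = q₁ := EffectiveEpi.fac (q₁ ≫ gam) q₁ fun v₁ v₂ e => hcoeq v₁ v₂ e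
  haveI : IsIso gam := ⟨δ, by rw [← cancel_epi q₁, Category.comp_id, ← Category.assoc]; exact hδ,
    by rw [← cancel_epi (q₁ ≫ gam), ← Category.assoc, hδ, Category.comp_id]⟩
  exact ⟨ω, (IsPullback.of_hasPullback D.ψ.left φ.left).of_iso (asIso gam).symm
    (Iso.refl _) (Iso.refl _) (Iso.refl _) (by simp [gam]) (by simp [gam]) (by simp) (by simp)⟩

/-- Properties of the quotient of the group pass to the quotient of the torsor. -/
theorem psi_of (P : MorphismProperty Scheme.{u}) [P.IsStableUnderBaseChange]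
    [P.DescendsAlong (@Surjective ⊓ @Flat ⊓ @QuasiCompact)]
    (i : H ⟶ G) [IsMonHom i] (pG : G ⟶ GH) [Flat pG.left] [Surjective pG.left]
    [QuasiCompact pG.left] (hpG : IsPullback ((i ▷ G) ≫ μ[G]) (snd H G) pG pG) (a : AlgGrp.Action G X)
    (φ : X ⟶ Y) (hcart : IsPullback a.act (snd G X) φ φ) [Flat φ.left] [Surjective φ.left] [QuasiCompact φ.left]
    (D : Quot i a φ) (hP : P GH.hom) : P D.ψ.left := by
  obtain ⟨ω, hω⟩ := exists_fiber i pG hpG a φ hcart D
  exact MorphismProperty.DescendsAlong.of_isPullback (P := P) (Q := @Surjective ⊓ @Flat ⊓ @QuasiCompact)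
    hω.flip ⟨⟨‹_›, ‹_›⟩, ‹_›⟩ (GrpSch.snd_left_of X (P := P) hP)

/-- The quotient of the group by right translations gives a quotient by left translations. -/
theorem isPullback_inv_orbit (i : H ⟶ G) [IsMonHom i] [Mono i] (π : G ⟶ GH)
    (hπ : IsPullback (fst G H) ((G ◁ i) ≫ μ[G]) π π) :
    IsPullback ((i ▷ G) ≫ μ[G]) (snd H G) ((𝟙 G)⁻¹ ≫ π) ((𝟙 G)⁻¹ ≫ π) := by
  have hinv : ∀ {T : Over S} (g : T ⟶ G), g ≫ (𝟙 G)⁻¹ ≫ π = g⁻¹ ≫ π := fun g => by
    rw [← Category.assoc, GrpObj.comp_inv, Category.comp_id]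
  let aL : AlgGrp.Action H G := (NonAbH1.trivialAction G).restrict i
  have hact : ∀ {T : Over S} (h : T ⟶ H) (g : T ⟶ G), lift h g ≫ aL.act = (h ≫ i) * g := fun h g => by
    rw [AlgGrp.Action.lift_restrict_act]
    rfl
  have haL : aL.act = (i ▷ G) ≫ μ[G] := AlgGrp.Action.hom_ext_lift₂ fun T h g => by
    rw [hact, lift_whiskerRight_assoc, ← Hom.mul_def]
  rw [← haL]
  refine TorsorComp.isPullback_of_points _ _ ?_ ?_ ?_
  · refine AlgGrp.Action.hom_ext_lift₂ fun T h g => ?_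
    rw [← Category.assoc, hact, lift_snd_assoc, hinv, hinv, _root_.mul_inv_rev, ← GrpObj.inv_comp]
    have hw' := congrArg (lift g⁻¹ h⁻¹ ≫ ·) hπ.w
    simp only [lift_fst_assoc, lift_whiskerLeft_assoc, Category.assoc] at hw'
    rw [← Category.assoc (lift _ _), ← Hom.mul_def] at hw'
    exact hw'.symm
  · intro T x₁ x₂ h
    rw [hinv, hinv] at h
    obtain ⟨l, hl1, hl2⟩ := hπ.exists_lift x₂⁻¹ x₁⁻¹ h.symm
    have el : l = lift x₂⁻¹ (l ≫ snd G H) := by
      ext1
      · rw [lift_fst]; exact hl1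
      · rw [lift_snd]
    rw [el, lift_whiskerLeft_assoc, ← Hom.mul_def] at hl2
    refine ⟨(l ≫ snd G H)⁻¹, ?_⟩
    rw [hact, GrpObj.inv_comp, ← inv_inv x₁, ← hl2, _root_.mul_inv_rev, inv_inv]
  · intro T g g' x h
    rw [hact, hact] at h
    exact (cancel_mono i).1 (mul_right_cancel h)

end

end Groth.Agent.H60.TorsQuot
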