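import Groth.Agent.H60.TorsQuot.Local
import Groth.Agent.H60.TorsorCat
import Mathlib.AlgebraicGeometry.RelativeGluing
import Mathlib.AlgebraicGeometry.Sites.Fpqc

/-!
Gluing quotients of a torsor by a subgroup over a basis of the base.
-/

set_option autoImplicit false
set_option backward.isDefEq.respectTransparency false

universe u

open CategoryTheory CategoryTheory.Limits MonoidalCategory CartesianMonoidalCategory MonObj AlgebraicGeometry
open Groth.Agent.Lib TopologicalSpace
open Groth.Agent.H60.GlueQ (sub incl Stable resAct)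

namespace Groth.Agent.H60.TorsQuot

noncomputable section

variable {S : Scheme.{u}} {G H X Y : Over S} [GrpObj G] [GrpObj H]

theorem isCatQuot_q {i : H ⟶ G} [IsMonHom i] {a : AlgGrp.Action G X} {φ : X ⟶ Y} (D : Quot i a φ) :
    GIT.IsCatQuot (a.restrict i) D.q := by
  haveI := D.flat; haveI := D.surj; haveI := D.qc
  exact TorsorCat.isCatQuot _ D.q D.cart
    ⟨_, D.q.left.singleton_mem_fpqcPrecoverage, by rintro _ _ ⟨⟩; exact ⟨𝟙 _, Category.id_comp _⟩⟩

theorem epi_q {i : H ⟶ G} [IsMonHom i] {a : AlgGrp.Action G X} {φ : X ⟶ Y} (D : Quot i a φ) : Epi D.q.left := by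
  haveI := D.flat; haveI := D.surj; haveI := D.qc
  infer_instance

variable (i : H ⟶ G) [IsMonHom i] (a : AlgGrp.Action G X) (φ : X ⟶ Y)

/-- The preimage of an open of the base. -/
abbrev pre (W : Y.left.Opens) : X.left.Opens := φ.left ⁻¹ᵁ W

theorem stable_pre (hinv : a.act ≫ φ = snd G X ≫ φ) (W : Y.left.Opens) : Stable a (pre φ W) := by
  show a.act.left ⁻¹ᵁ (φ.left ⁻¹ᵁ W) = (snd G X).left ⁻¹ᵁ (φ.left ⁻¹ᵁ W)
  rw [← Scheme.Hom.comp_preimage, ← Scheme.Hom.comp_preimage, ← Over.comp_left, ← Over.comp_left, hinv]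

/-- The map over an open of the base. -/
def mapPre (W : Y.left.Opens) : sub (pre φ W) ⟶ sub W :=
  Over.homMk (φ.left ∣_ W) (by
    show φ.left ∣_ W ≫ W.ι ≫ Y.hom = (pre φ W).ι ≫ X.hom
    rw [morphismRestrict_ι_assoc, Over.w])

theorem mapPre_incl (W : Y.left.Opens) : mapPre φ W ≫ incl W = incl (pre φ W) ≫ φ :=
  Over.OverMorphism.ext (morphismRestrict_ι _ _)

theorem isPullback_mapPre (hcart : IsPullback a.act (snd G X) φ φ) (W : Y.left.Opens) :
    IsPullback (resAct a (pre φ W) (stable_pre a φ hcart.w W)).act (snd G (sub (pre φ W))) (mapPre φ W) (mapPre φ W) := by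
  refine TorsorComp.isPullback_of_points _ _ ?_ ?_ ?_
  · rw [← cancel_mono (incl W), Category.assoc, Category.assoc, mapPre_incl, ← Category.assoc,
      GlueQ.resAct_incl, Category.assoc, hcart.w, whiskerLeft_snd_assoc]
  · intro T x₁ x₂ h
    obtain ⟨g, hg⟩ := TorsorGeom.exists_act a φ hcart T (x₁ ≫ incl _) (x₂ ≫ incl _) (by
      simp only [Category.assoc, ← mapPre_incl, reassoc_of% h])
    refine ⟨g, ?_⟩
    rw [← cancel_mono (incl (pre φ W)), Category.assoc, GlueQ.resAct_incl, lift_whiskerLeft_assoc, hg]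
  · intro T g g' x h
    refine TorsorComp.act_inj a φ hcart (x := x ≫ incl _) ?_
    have h' := congrArg (· ≫ incl (pre φ W)) h
    simpa only [Category.assoc, GlueQ.resAct_incl, lift_whiskerLeft_assoc] using h'

theorem lift_resAct_incl (U : X.left.Opens) (hU : Stable a U) {T : Over S} (g : T ⟶ G) (x : T ⟶ sub U) :
    (lift g x ≫ (resAct a U hU).act) ≫ incl U = lift g (x ≫ incl U) ≫ a.act := by
  rw [Category.assoc, GlueQ.resAct_incl, lift_whiskerLeft_assoc]

/-- Gluing. -/
theorem exists_glue [Mono i] (hcart : IsPullback a.act (snd G X) φ φ) (good : Y.left.affineOpens → Prop)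
    (hmono : ∀ U V : Y.left.affineOpens, U ≤ V → good V → good U)
    (hcov : ∀ y : Y.left, ∃ W : Y.left.affineOpens, good W ∧ y ∈ W.1)
    (D : ∀ W : {W : Y.left.affineOpens // good W},
      Quot i (resAct a (pre φ W.1.1) (stable_pre a φ hcart.w W.1.1)) (mapPre φ W.1.1)) :
    ∃ Q : Quot i a φ, ∀ P : MorphismProperty Scheme.{u}, IsZariskiLocalAtTarget P →
      (∀ W, P (D W).ψ.left) → P Q.ψ.left := by
  classical
  -- the basis
  let 𝒰 : Y.left.OpenCover :=
    { I₀ := {W : Y.left.affineOpens // good W}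
      X := fun W => W.1.1
      f := fun W => W.1.1.ι
      mem₀ := by
        rw [Scheme.presieve₀_mem_precoverage_iff]
        refine ⟨fun y => ?_, inferInstance⟩
        obtain ⟨W, hW, hy⟩ := hcov y
        exact ⟨⟨W, hW⟩, ⟨⟨y, hy⟩, rfl⟩⟩ }
  letI : Preorder 𝒰.I₀ := inferInstanceAs (Preorder {W : Y.left.affineOpens // good W})
  haveI : Scheme.Cover.LocallyDirected 𝒰 := .ofIsBasisOpensRange (by intros; simp [𝒰]) <| by
    rw [Opens.isBasis_iff_nbhd]
    intro U y hy
    obtain ⟨W, hW, hyW⟩ := hcov y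
    obtain ⟨V, hV, hyV, hVle⟩ := exists_isAffineOpen_mem_and_subset (U := U ⊓ W.1) ⟨hy, hyW⟩
    refine ⟨V, ⟨⟨⟨V, hV⟩, hmono ⟨V, hV⟩ W (le_trans hVle inf_le_right : V ≤ W.1) hW⟩, by simp [𝒰]⟩, hyV,
      le_trans hVle inf_le_left⟩
  let XW : 𝒰.I₀ → Over S := fun W => sub (pre φ W.1.1)
  -- transition maps
  let cX : ∀ {U V : 𝒰.I₀}, U ≤ V → (XW U ⟶ XW V) := fun {U V} h =>
    Over.homMk (X.left.homOfLE (φ.left.preimage_mono h)) (by
      show X.left.homOfLE (φ.left.preimage_mono h) ≫ (pre φ V.1.1).ι ≫ X.hom = (pre φ U.1.1).ι ≫ X.hom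
      rw [Scheme.homOfLE_ι_assoc])
  have hcX : ∀ {U V : 𝒰.I₀} (h : U ≤ V), cX h ≫ incl _ = incl _ := fun h =>
    Over.OverMorphism.ext (X.left.homOfLE_ι (φ.left.preimage_mono h))
  let cY : ∀ {U V : 𝒰.I₀}, U ≤ V → (sub U.1.1 ⟶ sub V.1.1) := fun {U V} h =>
    Over.homMk (Y.left.homOfLE h) (by
      show Y.left.homOfLE h ≫ V.1.1.ι ≫ Y.hom = U.1.1.ι ≫ Y.hom
      rw [Scheme.homOfLE_ι_assoc])
  have hcY : ∀ {U V : 𝒰.I₀} (h : U ≤ V), cY h ≫ incl _ = incl _ := fun h =>
    Over.OverMorphism.ext (Y.left.homOfLE_ι h)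
  have hcXY : ∀ {U V : 𝒰.I₀} (h : U ≤ V), cX h ≫ mapPre φ V.1.1 = mapPre φ U.1.1 ≫ cY h := fun h => by
    rw [← cancel_mono (incl _), Category.assoc, Category.assoc, mapPre_incl, reassoc_of% hcX h, hcY h, mapPre_incl]
  have hinvq : ∀ {U V : 𝒰.I₀} (h : U ≤ V) {T : Over S} (g : T ⟶ H) (x : T ⟶ XW U),
      (lift g x ≫ ((resAct a (pre φ U.1.1) (stable_pre a φ hcart.w U.1.1)).restrict i).act) ≫ cX h ≫ (D V).q =
        x ≫ cX h ≫ (D V).q := fun {U V} h {T} g x => by
    have e : (lift g x ≫ ((resAct a (pre φ U.1.1) (stable_pre a φ hcart.w U.1.1)).restrict i).act) ≫ cX h =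
        lift g (x ≫ cX h) ≫ ((resAct a (pre φ V.1.1) (stable_pre a φ hcart.w V.1.1)).restrict i).act := by
      rw [← cancel_mono (incl _)]
      simp only [Category.assoc]
      rw [← Category.assoc (lift g x), ← Category.assoc (lift g (x ≫ cX h)), AlgGrp.Action.lift_restrict_act,
        AlgGrp.Action.lift_restrict_act, hcX h, lift_resAct_incl, lift_resAct_incl, Category.assoc, hcX h]
    rw [← Category.assoc, e, Category.assoc, (D V).cart.w, lift_snd_assoc, Category.assoc]
  have hl : ∀ {U V : 𝒰.I₀} (h : U ≤ V), ∃ l : (D U).Z ⟶ (D V).Z, (D U).q ≫ l = cX h ≫ (D V).q := fun {U V} h => by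
    obtain ⟨χ, hχ, -⟩ := (isCatQuot_q (D U)).2 _ (cX h ≫ (D V).q) (AlgGrp.Action.hom_ext_lift₂ fun T g x => by
      rw [← Category.assoc, hinvq h, lift_snd_assoc])
    exact ⟨χ, hχ⟩
  choose l hl using @hl
  have hepi : ∀ (U : 𝒰.I₀) {Z : Scheme.{u}} {m n : (D U).Z.left ⟶ Z}, (D U).q.left ≫ m = (D U).q.left ≫ n → m = n :=
    fun U Z m n e => by haveI := epi_q (D U); exact (cancel_epi (D U).q.left).1 e
  have hlw : ∀ {U V : 𝒰.I₀} (h : U ≤ V), (l h).left ≫ (D V).ψ.left = (D U).ψ.left ≫ Y.left.homOfLE h :=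
    fun {U V} h => hepi U (by
      rw [← Category.assoc, ← Over.comp_left, hl, ← Over.comp_left, Category.assoc, (D V).fac, hcXY h,
        ← Category.assoc, ← Over.comp_left, (D U).fac]
      rfl)
  have hlpb : ∀ {U V : 𝒰.I₀} (h : U ≤ V),
      IsPullback (D U).ψ.left (l h).left (Y.left.homOfLE h) (D V).ψ.left := fun {U V} h => by
    let P := pullback (D V).ψ.left (Y.left.homOfLE h)
    let γ : (D U).Z.left ⟶ P := pullback.lift (l h).left (D U).ψ.left (hlw h)
    have hXsq : IsPullback (mapPre φ U.1.1).left (cX h).left (Y.left.homOfLE h) (mapPre φ V.1.1).left := by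
      refine IsPullback.of_bot ?_ ?_ (isPullback_morphismRestrict φ.left V.1.1).flip.flip
      · show IsPullback _ (X.left.homOfLE (φ.left.preimage_mono h) ≫ (pre φ V.1.1).ι) (Y.left.homOfLE h ≫ V.1.1.ι) _
        rw [Scheme.homOfLE_ι, Scheme.homOfLE_ι]
        exact isPullback_morphismRestrict φ.left U.1.1
      · exact (congrArg (fun m => m.left) (hcXY h)).symm
    have hsq : IsPullback ((D U).q.left ≫ γ) (cX h).left (pullback.fst (D V).ψ.left (Y.left.homOfLE h)) (D V).q.left := by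
      refine IsPullback.of_right ?_ ?_ (IsPullback.of_hasPullback (D V).ψ.left (Y.left.homOfLE h)).flip
      · rw [Category.assoc, pullback.lift_snd, ← Over.comp_left, ← Over.comp_left, (D U).fac, (D V).fac]
        exact hXsq
      · rw [Category.assoc, pullback.lift_fst, ← Over.comp_left, hl]
        rfl
    haveI : Flat ((D U).q.left ≫ γ) := MorphismProperty.of_isPullback hsq.flip (D V).flat
    haveI : Surjective ((D U).q.left ≫ γ) := MorphismProperty.of_isPullback hsq.flip (D V).surj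
    haveI : QuasiCompact ((D U).q.left ≫ γ) := MorphismProperty.of_isPullback hsq.flip (D V).qc
    have hcoeq : ∀ {T : Scheme.{u}} (v₁ v₂ : T ⟶ (XW U).left),
        v₁ ≫ (D U).q.left ≫ γ = v₂ ≫ (D U).q.left ≫ γ → v₁ ≫ (D U).q.left = v₂ ≫ (D U).q.left := by
      intro T v₁ v₂ e
      have e1 := congrArg (· ≫ pullback.fst (D V).ψ.left (Y.left.homOfLE h)) e
      simp only [Category.assoc, γ, pullback.lift_fst] at e1
      rw [← Over.comp_left, hl, Over.comp_left] at e1
      have e2 : v₁ ≫ (XW U).hom = v₂ ≫ (XW U).hom := by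
        have := congrArg (· ≫ (D V).Z.hom) e1
        simp at this
        exact this
      let To : Over S := Over.mk (v₁ ≫ (XW U).hom)
      let u₁ : To ⟶ XW U := Over.homMk v₁ rfl
      let u₂ : To ⟶ XW U := Over.homMk v₂ e2.symm
      obtain ⟨t, ht1, ht2⟩ := (D V).cart.exists_lift (u₁ ≫ cX h) (u₂ ≫ cX h)
        (by rw [Category.assoc, Category.assoc]; exact Over.OverMorphism.ext e1)
      have et : t = lift (t ≫ fst H _) (u₂ ≫ cX h) := by
        ext1
        · rw [lift_fst]
        · exact ht2.trans (lift_snd _ _).symm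
      rw [et, AlgGrp.Action.lift_restrict_act] at ht1
      have eu : lift (t ≫ fst H _) u₂ ≫ ((resAct a (pre φ U.1.1) (stable_pre a φ hcart.w U.1.1)).restrict i).act = u₁ := by
        rw [AlgGrp.Action.lift_restrict_act, ← cancel_mono (incl _), lift_resAct_incl, ← hcX h,
          ← Category.assoc, ← lift_resAct_incl a _ (stable_pre a φ hcart.w V.1.1), ht1, Category.assoc]
      have := congrArg (· ≫ (D U).q) eu
      simp only [Category.assoc, (D U).cart.w, lift_snd_assoc] at this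
      exact congrArg (fun m => m.left) ((lift_snd_assoc _ _ _).symm.trans this).symm
    let δ : P ⟶ (D U).Z.left := EffectiveEpi.desc ((D U).q.left ≫ γ) (D U).q.left fun v₁ v₂ e => hcoeq v₁ v₂ e
    have hδ : ((D U).q.left ≫ γ) ≫ δ = (D U).q.left :=
      EffectiveEpi.fac ((D U).q.left ≫ γ) (D U).q.left fun v₁ v₂ e => hcoeq v₁ v₂ e
    have : IsIso γ := ⟨δ, hepi U (by rw [Category.comp_id, ← Category.assoc]; exact hδ), by
      rw [← cancel_epi ((D U).q.left ≫ γ), ← Category.assoc, hδ, Category.comp_id]⟩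
    exact (IsPullback.of_hasPullback (D V).ψ.left (Y.left.homOfLE h)).flip.of_iso (asIso γ).symm
      (Iso.refl _) (Iso.refl _) (Iso.refl _) (by simp [γ]) (by simp [γ]) (by simp) (by simp)
  let F : 𝒰.I₀ ⥤ Scheme.{u} :=
    { obj := fun U => (D U).Z.left
      map := fun {U V} f => (l (leOfHom f)).left
      map_id := fun U => hepi U (by
        rw [Category.comp_id, ← Over.comp_left, hl, show cX (leOfHom (𝟙 U)) = 𝟙 _ from
          Over.OverMorphism.ext (by simp [cX]; rfl), Category.id_comp])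
      map_comp := fun {U V W} f g => hepi U (by
        rw [← Category.assoc, ← Over.comp_left, ← Over.comp_left, ← Over.comp_left, hl, hl, Category.assoc, hl,
          ← Category.assoc]
        congr 2
        exact Over.OverMorphism.ext (by simp [cX])) }
  have htr : ∀ {U V : 𝒰.I₀} (f : U ⟶ V), 𝒰.trans f = Y.left.homOfLE (leOfHom f) := fun {U V} f => by
    rw [← cancel_mono V.1.1.ι, Scheme.homOfLE_ι]
    exact Scheme.Cover.trans_map 𝒰 f
  let d : 𝒰.RelativeGluingData :=
    { functor := F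
      natTrans :=
        { app := fun U => (D U).ψ.left
          naturality := fun U V f => (hlw (leOfHom f)).trans (by rw [← htr f]; rfl) }
      equifibered := fun {U V} f => by
        have := (hlpb (leOfHom f)).flip
        rw [← htr f] at this
        exact this }
  haveI : Small.{u} 𝒰.I₀ := inferInstanceAs (Small.{u} {W : Y.left.affineOpens // good W})
  haveI : Quiver.IsThin 𝒰.I₀ := fun U V => inferInstanceAs (Subsingleton (U ⟶ V))
  haveI : (d.functor ⋙ Scheme.forget).IsLocallyDirected :=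
    Scheme.Cover.RelativeGluingData.instIsLocallyDirectedI₀CompFunctorForgetOfIsThin d
  haveI : ∀ {U V} (f : U ⟶ V), IsOpenImmersion (d.functor.map f) := fun f =>
    Scheme.Cover.RelativeGluingData.instIsOpenImmersionMapI₀Functor d f
  haveI : HasColimit d.functor := inferInstance
  have hsqι : ∀ U, IsPullback (D U).ψ.left (colimit.ι d.functor U) U.1.1.ι d.toBase :=
    d.isPullback_natTrans_ι_toBase
  let 𝒱 : X.left.OpenCover := 𝒰.pullback₁ φ.left
  let g : ∀ U : 𝒰.I₀, pullback φ.left U.1.1.ι ⟶ (XW U).left := fun U => (pullbackRestrictIsoRestrict φ.left U.1.1).hom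
  let qi : ∀ U : 𝒰.I₀, pullback φ.left U.1.1.ι ⟶ colimit d.functor := fun U =>
    g U ≫ (D U).q.left ≫ colimit.ι d.functor U
  have hg : ∀ U : 𝒰.I₀, g U ≫ (pre φ U.1.1).ι = pullback.fst φ.left U.1.1.ι := fun U =>
    pullbackRestrictIsoRestrict_hom_ι φ.left U.1.1
  obtain ⟨q₀, hq₀⟩ : ∃ q₀ : X.left ⟶ colimit d.functor, ∀ U : 𝒰.I₀, (pre φ U.1.1).ι ≫ q₀ =
      (D U).q.left ≫ colimit.ι d.functor U := by
    have hc : ∀ {U V : 𝒰.I₀} (f : U ⟶ V), 𝒱.trans f ≫ qi V = qi U := by
      intro (U : 𝒰.I₀) (V : 𝒰.I₀) f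
      have hUV : U ≤ V := leOfHom f
      have e : 𝒱.trans f ≫ g V = g U ≫ (cX hUV).left := by
        rw [← cancel_mono (pre φ V.1.1).ι, Category.assoc, hg, Category.assoc,
          show (cX hUV).left ≫ (pre φ V.1.1).ι = (pre φ U.1.1).ι from X.left.homOfLE_ι (φ.left.preimage_mono hUV), hg]
        exact (pullback.lift_fst _ _ _).trans (Category.comp_id _)
      simp only [qi]
      rw [reassoc_of% e]
      rw [← Category.assoc (cX hUV).left, ← Over.comp_left, ← hl hUV, Over.comp_left, Category.assoc]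
      exact congrArg (fun z => g U ≫ (D U).q.left ≫ z) (colimit.w d.functor (homOfLE hUV))
    refine ⟨𝒱.glueMorphismsOfLocallyDirected qi hc, fun U => ?_⟩
    rw [← cancel_epi (g U), ← Category.assoc, hg]
    exact 𝒱.map_glueMorphismsOfLocallyDirected qi hc U
  have hfac : q₀ ≫ d.toBase = φ.left := by
    refine 𝒱.hom_ext _ _ fun (U : 𝒰.I₀) => ?_
    show pullback.fst φ.left U.1.1.ι ≫ _ = pullback.fst φ.left U.1.1.ι ≫ _
    rw [← hg U, Category.assoc, Category.assoc, reassoc_of% hq₀ U, ← (hsqι U).w]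
    congr 1
    rw [← Category.assoc, ← Over.comp_left, (D U).fac]
    exact morphismRestrict_ι _ _
  let Z : Over S := Over.mk (d.toBase ≫ Y.hom)
  let q : X ⟶ Z := Over.homMk q₀ (by
    show q₀ ≫ d.toBase ≫ Y.hom = X.hom
    rw [reassoc_of% hfac, Over.w])
  let ψ : Z ⟶ Y := Over.homMk d.toBase rfl
  let ιZ : ∀ U : 𝒰.I₀, (D U).Z ⟶ Z := fun U => Over.homMk (colimit.ι d.functor U) (by
    show colimit.ι d.functor U ≫ d.toBase ≫ Y.hom = _
    rw [← reassoc_of% (hsqι U).w]
    exact Over.w (D U).ψ)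
  have hqU : ∀ U, incl (pre φ U.1.1) ≫ q = (D U).q ≫ ιZ U := fun U => Over.OverMorphism.ext (hq₀ U)
  have hpre : ∀ U, IsPullback (pre φ U.1.1).ι (D U).q.left q₀ (colimit.ι d.functor U) := fun U => by
    refine IsPullback.of_bot ?_ (hq₀ U) (hsqι U).flip
    rw [hfac, ← Over.comp_left, (D U).fac]
    exact (isPullback_morphismRestrict φ.left U.1.1).flip
  have hZ : ∀ z : (colimit d.functor : Scheme.{u}), ∃ U, z ∈ Set.range (colimit.ι d.functor U) := fun z => by
    obtain ⟨U, x, hx⟩ := Scheme.IsLocallyDirected.ι_jointly_surjective _ z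
    exact ⟨U, x, hx⟩
  have hloc : ∀ (P : MorphismProperty Scheme.{u}) [IsZariskiLocalAtTarget P],
      (∀ U, P (D U).q.left) → P q₀ := fun P _ h =>
    IsZariskiLocalAtTarget.of_openCover (Scheme.IsLocallyDirected.openCover d.functor) fun (U : 𝒰.I₀) => by
      show P (pullback.snd q₀ (colimit.ι d.functor U))
      rw [← (hpre U).isoPullback_inv_snd]
      exact (P.cancel_left_of_respectsIso _ _).2 (h U)
  refine ⟨⟨Z, q, ψ, Over.OverMorphism.ext hfac, hloc @Flat fun U => (D U).flat, hloc @Surjective fun U => (D U).surj,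
    hloc @LocallyOfFinitePresentation fun U => (D U).lfp, hloc @QuasiCompact fun U => (D U).qc, ?_⟩, fun P hP h => ?_⟩
  swap
  · haveI := hP
    show P d.toBase
    exact IsZariskiLocalAtTarget.of_openCover 𝒰 fun U => by
      show P (pullback.snd d.toBase U.1.1.ι)
      rw [← (hsqι U).flip.isoPullback_inv_snd]
      exact (P.cancel_left_of_respectsIso _ _).2 (h U)
  -- the torsor
  refine TorsorComp.isPullback_of_points _ _ ?_ ?_ ?_
  · ext1
    refine Scheme.Cover.hom_ext (𝒰.pullback₁ ((snd H X).left ≫ φ.left)) _ _ fun (U : 𝒰.I₀) => ?_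
    let T : Over S := Over.mk (pullback.fst ((snd H X).left ≫ φ.left) U.1.1.ι ≫ (H ⊗ X).hom)
    let c : T ⟶ H ⊗ X := Over.homMk (pullback.fst ((snd H X).left ≫ φ.left) U.1.1.ι) rfl
    obtain ⟨x, hx, -⟩ := (isPullback_morphismRestrict φ.left U.1.1).flip.exists_lift (c ≫ snd H X).left
      (pullback.snd ((snd H X).left ≫ φ.left) U.1.1.ι) (by simpa [c] using pullback.condition)
    let xo : T ⟶ XW U := Over.homMk x (by
      show x ≫ (pre φ U.1.1).ι ≫ X.hom = _
      rw [reassoc_of% hx, Over.w])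
    have hxo : xo ≫ incl _ = c ≫ snd H X := Over.OverMorphism.ext hx
    have hc : c = lift (c ≫ fst H X) (xo ≫ incl _) := by ext1 <;> simp [hxo]
    have e : c ≫ (a.restrict i).act ≫ q = c ≫ snd H X ≫ q := by
      rw [hc, lift_snd_assoc, ← Category.assoc, AlgGrp.Action.lift_restrict_act,
        ← lift_resAct_incl a _ (stable_pre a φ hcart.w U.1.1), Category.assoc, hqU, ← Category.assoc,
        ← AlgGrp.Action.lift_restrict_act, Category.assoc (lift _ xo), (D U).cart.w, lift_snd_assoc,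
        Category.assoc, ← hqU]
      simp
    exact congrArg (fun m => m.left) e
  · intro T x₁ x₂ h
    have hφ : x₁ ≫ φ = x₂ ≫ φ := by
      rw [← show q ≫ ψ = φ from Over.OverMorphism.ext hfac, reassoc_of% h]
    obtain ⟨g, hg⟩ := TorsorGeom.exists_act a φ hcart T x₁ x₂ hφ
    let 𝒯 := 𝒰.pullback₁ (x₁ ≫ φ).left
    have hh : ∀ U : 𝒰.I₀, ∃ h' : pullback (x₁ ≫ φ).left U.1.1.ι ⟶ H.left,
        h' ≫ i.left = pullback.fst (x₁ ≫ φ).left U.1.1.ι ≫ g.left := fun U => by
      let TU : Over S := Over.mk (pullback.fst (x₁ ≫ φ).left U.1.1.ι ≫ T.hom)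
      let c : TU ⟶ T := Over.homMk (pullback.fst (x₁ ≫ φ).left U.1.1.ι) rfl
      have hres : ∀ x : T ⟶ X, x ≫ φ = x₁ ≫ φ → ∃ xo : TU ⟶ XW U, xo ≫ incl _ = c ≫ x := fun x hx => by
        obtain ⟨w, hw, -⟩ := (isPullback_morphismRestrict φ.left U.1.1).flip.exists_lift (c ≫ x).left
          (pullback.snd (x₁ ≫ φ).left U.1.1.ι) (by
            rw [Over.comp_left, Category.assoc, ← Over.comp_left, hx]
            exact pullback.condition)
        exact ⟨Over.homMk w (by
          show w ≫ (pre φ U.1.1).ι ≫ X.hom = _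
          rw [reassoc_of% hw, Over.w]), Over.OverMorphism.ext hw⟩
      obtain ⟨w₁, hw₁⟩ := hres x₁ rfl
      obtain ⟨w₂, hw₂⟩ := hres x₂ hφ.symm
      have hq12 : w₁ ≫ (D U).q = w₂ ≫ (D U).q := by
        haveI : Mono (ιZ U) := by
          haveI : Mono (ιZ U).left := inferInstanceAs (Mono (colimit.ι d.functor U))
          exact Over.mono_of_mono_left _
        rw [← cancel_mono (ιZ U), Category.assoc, Category.assoc, ← hqU, reassoc_of% hw₁, reassoc_of% hw₂, h]
      obtain ⟨t, ht1, ht2⟩ := (D U).cart.exists_lift w₁ w₂ hq12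
      have et : t = lift (t ≫ fst H _) w₂ := by
        ext1
        · rw [lift_fst]
        · exact ht2.trans (lift_snd _ _).symm
      rw [et, AlgGrp.Action.lift_restrict_act] at ht1
      have ht := congrArg (· ≫ incl (pre φ U.1.1)) ht1
      simp only [lift_resAct_incl, hw₁, hw₂] at ht
      have : (t ≫ fst H _) ≫ i = c ≫ g := by
        refine TorsorComp.act_inj a φ hcart (x := c ≫ x₂) ?_
        rw [ht, ← hg, comp_lift_assoc]
      exact ⟨(t ≫ fst H _).left, congrArg (fun m => m.left) this⟩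
    choose h' hh' using hh
    haveI : Mono i.left := (Over.forget S).map_mono i
    let hgl : T.left ⟶ H.left := Scheme.Cover.glueMorphisms 𝒯 h' fun U V => by
      rw [← cancel_mono i.left, Category.assoc, Category.assoc, hh', hh', ← Category.assoc, ← Category.assoc]
      exact congrArg (· ≫ g.left) pullback.condition
    have hgi : hgl ≫ i.left = g.left := Scheme.Cover.hom_ext 𝒯 _ _ fun (U : 𝒰.I₀) => by
      rw [← Category.assoc, Scheme.Cover.ι_glueMorphisms]
      exact hh' U
    refine ⟨Over.homMk hgl (by rw [← Over.w i, reassoc_of% hgi, Over.w]), ?_⟩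
    rw [AlgGrp.Action.lift_restrict_act, ← hg]
    congr 2
    exact Over.OverMorphism.ext hgi
  · intro T g g' x h
    rw [AlgGrp.Action.lift_restrict_act, AlgGrp.Action.lift_restrict_act] at h
    exact (cancel_mono i).1 (TorsorComp.act_inj a φ hcart h)

end

end Groth.Agent.H60.TorsQuot
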