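import Groth.Agent.H60.GlueQ.Restrict
import Groth.Agent.H60.TorsorComp
import Groth.Agent.H60.TorsorGeom
import Groth.Agent.Lib.GrpSch.ClosedDescent

/-!
The quotient of a torsor by a subgroup, over an open with an equivariant map to a bigger group.
-/

set_option autoImplicit false
set_option backward.isDefEq.respectTransparency false

universe u

open CategoryTheory CategoryTheory.Limits MonoidalCategory CartesianMonoidalCategory MonObj AlgebraicGeometry
open Groth.Agent.Lib

namespace Groth.Agent.H60.TorsQuot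

noncomputable section

variable {S : Scheme.{u}} {G H X Y : Over S} [GrpObj G] [GrpObj H]

/-- A quotient of `X` by the action of `H` given through `i`, over `Y`. -/
structure Quot (i : H ⟶ G) [IsMonHom i] (a : AlgGrp.Action G X) (φ : X ⟶ Y) where
  Z : Over S
  q : X ⟶ Z
  ψ : Z ⟶ Y
  fac : q ≫ ψ = φ
  flat : Flat q.left
  surj : Surjective q.left
  lfp : LocallyOfFinitePresentation q.left
  qc : QuasiCompact q.left
  cart : IsPullback (a.restrict i).act (snd H X) q q

/-- The local construction. -/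
theorem exists_quot {G' Q' : Over S} [GrpObj G'] (i : H ⟶ G) [IsMonHom i] (ρ : G ⟶ G') [IsMonHom ρ]
    [IsClosedImmersion ρ.left] (p : G' ⟶ Q') [Flat p.left] [Surjective p.left] [LocallyOfFinitePresentation p.left]
    [QuasiCompact p.left] (hp : IsPullback (((i ≫ ρ) ▷ G') ≫ μ[G']) (snd H G') p p) [IsSeparated Q'.hom]
    (a : AlgGrp.Action G X) (φ : X ⟶ Y) (hcart : IsPullback a.act (snd G X) φ φ)
    [Flat φ.left] [Surjective φ.left] [LocallyOfFinitePresentation φ.left]
    (F : X ⟶ G') (hF : ∀ (T : Over S) (g : T ⟶ G) (x : T ⟶ X), (lift g x ≫ a.act) ≫ F = (g ≫ ρ) * (x ≫ F)) :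
    ∃ D : Quot i a φ, IsSeparated D.ψ.left ∧ (LocallyOfFiniteType Q'.hom → LocallyOfFiniteType D.ψ.left) ∧
      (QuasiCompact Q'.hom → QuasiCompact D.ψ.left) := by
  let i0 : X ⟶ Y ⊗ G' := lift φ F
  -- the pullback of the embedding
  let m : G ⊗ X ⟶ X ⊗ G' := lift (snd G X) ((fst G X ≫ ρ) * (snd G X ≫ F))
  have hm : IsClosedImmersion m.left := by
    let e : X ⊗ G' ≅ X ⊗ G' :=
      { hom := lift (fst X G') (snd X G' * (fst X G' ≫ F))
        inv := lift (fst X G') (snd X G' * (fst X G' ≫ F)⁻¹)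
        hom_inv_id := by ext1 <;> simp [MonObj.comp_mul, GrpObj.comp_inv]
        inv_hom_id := by ext1 <;> simp [MonObj.comp_mul, GrpObj.comp_inv] }
    have he : m = (β_ G X).hom ≫ (X ◁ ρ) ≫ e.hom := by
      ext1 <;> simp [m, e, MonObj.comp_mul]
    rw [he, Over.comp_left, Over.comp_left]
    haveI : IsClosedImmersion (X ◁ ρ).left := GrpSch.whiskerLeft_left_of (P := @IsClosedImmersion) X ρ inferInstance
    haveI : IsIso (β_ G X).hom.left := ((Over.forget _).mapIso (β_ G X)).isIso_hom
    haveI : IsIso e.hom.left := ((Over.forget _).mapIso e).isIso_hom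
    infer_instance
  have sqm : IsPullback m.left a.act.left (φ ▷ G').left i0.left := by
    refine IsPullback.of_right ?_ ?_ (GrpSch.isPullback_whiskerRight φ G').flip
    · rw [← Over.comp_left, ← Over.comp_left, lift_fst, lift_fst]
      exact (hcart.map (Over.forget S)).flip
    · have : m ≫ (φ ▷ G') = a.act ≫ i0 := by
        refine AlgGrp.Action.hom_ext_lift₂ fun T g x => ?_
        ext1
        · simp [m, i0, hcart.w]
        · simpa [m, i0, MonObj.comp_mul] using (hF T g x).symm
      simpa using congrArg (fun z => z.left) this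
  haveI : IsClosedImmersion i0.left := by
    haveI : Flat (φ ▷ G').left := GrpSch.whiskerRight_left_of (P := @Flat) φ G' inferInstance
    haveI : Surjective (φ ▷ G').left := GrpSch.whiskerRight_left_of (P := @Surjective) φ G' inferInstance
    haveI : LocallyOfFinitePresentation (φ ▷ G').left :=
      GrpSch.whiskerRight_left_of (P := @LocallyOfFinitePresentation) φ G' inferInstance
    exact MorphismProperty.DescendsAlong.of_isPullback
      (P := @IsClosedImmersion.{u}) (Q := @Surjective ⊓ @Flat ⊓ @LocallyOfFinitePresentation)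
      sqm ⟨⟨‹_›, ‹_›⟩, ‹_›⟩ hm
  let pY := (Y ◁ p).left
  haveI : Flat pY := GrpSch.whiskerLeft_left_of (P := @Flat) Y p inferInstance
  haveI : Surjective pY := GrpSch.whiskerLeft_left_of (P := @Surjective) Y p inferInstance
  haveI : LocallyOfFinitePresentation pY :=
    GrpSch.whiskerLeft_left_of (P := @LocallyOfFinitePresentation) Y p inferInstance
  haveI : QuasiCompact pY := GrpSch.whiskerLeft_left_of (P := @QuasiCompact) Y p inferInstance
  have hinv : ∀ {T : Over S} (h : T ⟶ H) (x : T ⟶ X),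
      (lift h x ≫ (a.restrict i).act) ≫ i0 ≫ (Y ◁ p) = x ≫ i0 ≫ (Y ◁ p) := by
    intro T h x
    rw [AlgGrp.Action.lift_restrict_act]
    ext1
    · simp [i0, hcart.w]
    · have hw := congrArg (lift h (x ≫ F) ≫ ·) hp.w
      simp only [lift_whiskerRight_assoc, lift_snd_assoc, Category.assoc] at hw
      rw [← Category.assoc (lift (h ≫ i ≫ ρ) (x ≫ F)), ← Hom.mul_def] at hw
      have hFx := hF T (h ≫ i) x
      simp only [Category.assoc] at hFx
      simp only [i0, Category.assoc, whiskerLeft_snd, lift_snd_assoc]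
      rw [reassoc_of% hFx]
      exact hw
  -- two points of the product with one image
  have hrel : ∀ {T : Over S} (z₀ z₁ : T ⟶ Y ⊗ G'), z₀ ≫ (Y ◁ p) = z₁ ≫ (Y ◁ p) →
      ∀ x : T ⟶ X, x ≫ i0 = z₁ → ∃ h : T ⟶ H, (lift h x ≫ (a.restrict i).act) ≫ i0 = z₀ := by
    intro T z₀ z₁ hz x hx
    have h1 := congrArg (· ≫ fst Y Q') hz
    have h2 := congrArg (· ≫ snd Y Q') hz
    simp only [Category.assoc, whiskerLeft_fst] at h1
    simp only [Category.assoc, whiskerLeft_snd] at h2
    obtain ⟨l, hl1, hl2⟩ := hp.exists_lift (z₀ ≫ snd Y G') (z₁ ≫ snd Y G') (by simpa using h2)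
    refine ⟨l ≫ fst H G', ?_⟩
    rw [AlgGrp.Action.lift_restrict_act]
    ext1
    · simp [i0, hcart.w, h1, ← hx]
    · have el : l = lift (l ≫ fst H G') (z₁ ≫ snd Y G') := by ext1 <;> simp [hl2]
      rw [el, lift_whiskerRight_assoc, ← Hom.mul_def] at hl1
      have hF' := hF T ((l ≫ fst H G') ≫ i) x
      simp only [Category.assoc] at hF'
      rw [← hl1]
      simp only [i0, Category.assoc, lift_snd]
      rw [hF', ← hx]
      simp [i0]
  obtain ⟨W, j, q₀, hj, hsq⟩ := GrpSch.exists_closedImmersion_descent pY i0.left (fun {T} x₀ x₁ e hv => by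
    obtain ⟨v, hv⟩ := hv
    let To : Over S := Over.mk (x₁ ≫ (Y ⊗ G').hom)
    let z₁ : To ⟶ Y ⊗ G' := Over.homMk x₁ rfl
    have e0 : x₀ ≫ (Y ⊗ G').hom = x₁ ≫ (Y ⊗ G').hom := by
      rw [← Over.w (Y ◁ p), reassoc_of% e]
    let z₀ : To ⟶ Y ⊗ G' := Over.homMk x₀ e0
    let x : To ⟶ X := Over.homMk v (by
      show v ≫ X.hom = x₁ ≫ (Y ⊗ G').hom
      rw [← e0, ← hv, Category.assoc, Over.w])
    obtain ⟨h, hh⟩ := hrel z₁ z₀ (Over.OverMorphism.ext e.symm) x (Over.OverMorphism.ext hv)
    exact ⟨_, congrArg (fun z => z.left) hh⟩)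
  let Z : Over S := Over.mk (j ≫ (Y ⊗ Q').hom)
  let jo : Z ⟶ Y ⊗ Q' := Over.homMk j rfl
  let q : X ⟶ Z := Over.homMk q₀ (by
    show q₀ ≫ j ≫ (Y ⊗ Q').hom = X.hom
    rw [← reassoc_of% hsq.w, Over.w (Y ◁ p), Over.w i0])
  have hq : q ≫ jo = i0 ≫ (Y ◁ p) := Over.OverMorphism.ext hsq.w.symm
  haveI : IsClosedImmersion jo.left := hj
  haveI : Mono jo := Over.mono_of_mono_left _
  haveI : Mono i0 := Over.mono_of_mono_left _
  have hcart' : IsPullback (a.restrict i).act (snd H X) q q := by
    refine TorsorComp.isPullback_of_points _ _ ?_ ?_ ?_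
    · rw [← cancel_mono jo, Category.assoc, Category.assoc, hq]
      exact AlgGrp.Action.hom_ext_lift₂ fun T h x => by
        simpa only [Category.assoc, lift_snd_assoc] using hinv h x
    · intro T x₁ x₂ h
      have h' := congrArg (· ≫ jo) h
      simp only [Category.assoc, hq] at h'
      obtain ⟨g, hg⟩ := hrel (x₁ ≫ i0) (x₂ ≫ i0) (by simpa only [Category.assoc] using h') x₂ rfl
      exact ⟨g, (cancel_mono i0).1 hg⟩
    · intro T g g' x h
      rw [AlgGrp.Action.lift_restrict_act, AlgGrp.Action.lift_restrict_act] at h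
      have h' := congrArg (· ≫ F) h
      simp only [hF] at h'
      have h2 : g ≫ i ≫ ρ = g' ≫ i ≫ ρ := by simpa using mul_right_cancel h'
      have := hp.hom_ext (k := lift g (x ≫ F)) (l := lift g' (x ≫ F))
        (by simp only [lift_whiskerRight_assoc, h2]) (by simp)
      simpa using congrArg (· ≫ fst H G') this
  have hfl : Flat q₀ := MorphismProperty.of_isPullback hsq ‹Flat pY›
  have hsj : Surjective q₀ := MorphismProperty.of_isPullback hsq ‹Surjective pY›
  have hfp : LocallyOfFinitePresentation q₀ := MorphismProperty.of_isPullback hsq ‹LocallyOfFinitePresentation pY›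
  refine ⟨⟨Z, q, jo ≫ fst Y Q', by rw [← Category.assoc, hq, Category.assoc, whiskerLeft_fst, lift_fst],
    hfl, hsj, hfp, MorphismProperty.of_isPullback hsq ‹QuasiCompact pY›, hcart'⟩, ?_, fun hl => ?_, fun hl => ?_⟩
  · show IsSeparated (jo.left ≫ (fst Y Q').left)
    haveI : IsSeparated (fst Y Q').left := GrpSch.fst_left_of (P := @IsSeparated) Y inferInstance
    infer_instance
  · show LocallyOfFiniteType (jo.left ≫ (fst Y Q').left)
    haveI : LocallyOfFiniteType (fst Y Q').left := GrpSch.fst_left_of (P := @LocallyOfFiniteType) Y hl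
    infer_instance
  · show QuasiCompact (jo.left ≫ (fst Y Q').left)
    haveI : QuasiCompact (fst Y Q').left := GrpSch.fst_left_of (P := @QuasiCompact) Y hl
    infer_instance

end

end Groth.Agent.H60.TorsQuot
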