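import Groth.Agent.H60.TorsQuot.Glue
import Groth.Agent.H60.GLSpecial.Main
import Groth.Agent.Lib.GrpQ.AffineQuot
import Groth.Agent.Lib.GrpQ.RepMat
import Groth.Agent.Lib.GrpQ.DomFlat
import Groth.Agent.S5351

/-!
The quotient of a torsor under an affine algebraic group by a closed subgroup.
-/

set_option autoImplicit false
set_option backward.isDefEq.respectTransparency false

universe u

open CategoryTheory CategoryTheory.Limits MonoidalCategory CartesianMonoidalCategory MonObj AlgebraicGeometry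
open Groth.Agent.Lib Groth.Agent.Lib.GrpQ Groth.Agent.Lib.RedPts TopologicalSpace
open Groth.Agent.H60.GlueQ (sub incl Stable resAct)

namespace Groth.Agent.H60.TorsQuot

attribute [local instance] Points.baseAlgebra

noncomputable section

variable {k : Type u} [Field k]

local notation "𝒮" => Over (Spec (CommRingCat.of k))

/-- The coordinates of a point of the general linear group. -/
def mat {n : ℕ} {T : 𝒮} (g : T ⟶ AffQ.sp k (CoordGrp.GLn n k)) : Matrix (Fin n) (Fin n) Γ(T.left, ⊤) :=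
  Matrix.of fun i j => Points.algHomOf g (CoordGrp.GLn.X i j)

theorem mat_comp {n : ℕ} {T T' : 𝒮} (t : T' ⟶ T) (g : T ⟶ AffQ.sp k (CoordGrp.GLn n k)) :
    mat (t ≫ g) = RepMat.pbM t (mat g) := by
  ext i j
  exact Points.ringHomOf_comp t.left g.left _

theorem mat_mul {n : ℕ} {T : 𝒮} (g h : T ⟶ AffQ.sp k (CoordGrp.GLn n k)) : mat (g * h) = mat g * mat h := by
  ext i j
  show Points.algHomOf (g * h) _ = _
  rw [Points.algHomOf_mul, CoordGrp.GLn.comul_X]
  simp [mat, Matrix.mul_apply]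

theorem mat_one {n : ℕ} {T : 𝒮} : mat (1 : T ⟶ AffQ.sp k (CoordGrp.GLn n k)) = 1 := by
  ext i j
  show Points.algHomOf (1 : T ⟶ AffQ.sp k (CoordGrp.GLn n k)) _ = _
  rw [Points.algHomOf_one, CoordGrp.GLn.counit_X, Matrix.one_apply]
  split_ifs <;> simp

theorem mat_injective {n : ℕ} {T : 𝒮} {g h : T ⟶ AffQ.sp k (CoordGrp.GLn n k)} (e : mat g = mat h) : g = h := by
  refine Points.algHomOf_injective (CoordGrp.GLn.algHom_ext (fun i j => congrFun (congrFun e i) j) ?_)
  have hd : Points.algHomOf g CoordGrp.GLn.det = Points.algHomOf h CoordGrp.GLn.det := by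
    rw [CoordGrp.GLn.det_eq, AlgHom.map_det, AlgHom.map_det]
    congr 1
  have h1 := congrArg (Points.algHomOf g) (CoordGrp.GLn.det_mul_Dinv (n := n) (k := k))
  have h2 := congrArg (Points.algHomOf h) (CoordGrp.GLn.det_mul_Dinv (n := n) (k := k))
  rw [map_mul, map_one] at h1 h2
  rw [← hd] at h2
  exact left_inv_eq_right_inv (by rwa [mul_comm] at h1) h2

theorem exists_mat_eq {n : ℕ} {T : 𝒮} (M : Matrix (Fin n) (Fin n) Γ(T.left, ⊤)) (hM : IsUnit M.det) :
    ∃ g : T ⟶ AffQ.sp k (CoordGrp.GLn n k), mat g = M := by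
  obtain ⟨d, hd⟩ := hM.exists_right_inv
  refine ⟨Points.pointOf (CoordGrp.GLn.pt n k (B := Γ(T.left, ⊤)) M d hd), ?_⟩
  ext i j
  show Points.algHomOf (Points.pointOf _) _ = _
  rw [Points.algHomOf_pointOf, CoordGrp.GLn.pt_X]

/-- An affine algebraic group is a closed subgroup of a general linear group. -/
theorem exists_embedding (G : 𝒮) [GrpObj G] [IsAffine G.left] [LocallyOfFiniteType G.hom] :
    ∃ (n : ℕ) (ρ : G ⟶ AffQ.sp k (CoordGrp.GLn n k)), IsMonHom ρ ∧ IsClosedImmersion ρ.left := by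
  obtain ⟨A, _, _, e, he⟩ := H1.Hopf.exists_iso G
  haveI : IsIso e.inv.left := ((Over.forget _).mapIso e.symm).isIso_hom
  haveI : IsIso e.hom.left := ((Over.forget _).mapIso e).isIso_hom
  haveI : Algebra.FiniteType k A := DomFlat.finiteType_of_locallyOfFiniteType (by
    rw [← Over.w e.inv]; infer_instance)
  obtain ⟨n, π, hπ⟩ := Groth.Agent.S16480.result k A
  haveI : IsMonHom e.hom := he
  haveI : IsClosedImmersion (AffQ.homOfBialgHom π).left := by
    rw [AffQ.homOfBialgHom_left]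
    exact IsClosedImmersion.spec_of_surjective _ hπ
  refine ⟨n, e.hom ≫ AffQ.homOfBialgHom π, inferInstance, ?_⟩
  show IsClosedImmersion (e.hom.left ≫ (AffQ.homOfBialgHom π).left)
  infer_instance

/-- The representation of a homomorphism to a general linear group. -/
def repOf {G : 𝒮} [GrpObj G] {n : ℕ} (ρ : G ⟶ AffQ.sp k (CoordGrp.GLn n k)) [IsMonHom ρ] : RepMat.Rep G n where
  P := mat ρ
  mul g h := by simp only [← mat_comp, MonObj.mul_comp, mat_mul]
  one := by intro T; simp only [← mat_comp, MonObj.one_comp, mat_one]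

/-- Over an affine open of the base there are equivariant maps to the general linear group near every point. -/
theorem exists_nhd {G X Y : 𝒮} [GrpObj G] {n : ℕ} (ρ : G ⟶ AffQ.sp k (CoordGrp.GLn n k)) [IsMonHom ρ]
    (a : AlgGrp.Action G X) (φ : X ⟶ Y) (hcart : IsPullback a.act (snd G X) φ φ) [IsAffineHom φ.left]
    [Flat φ.left] [Surjective φ.left] (hgeo : GIT.IsGeomQuot a φ) (y : Y.left) :
    ∃ (W : Y.left.affineOpens), y ∈ W.1 ∧ ∃ F : sub (pre φ W.1) ⟶ AffQ.sp k (CoordGrp.GLn n k),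
      ∀ (T : 𝒮) (g : T ⟶ G) (x : T ⟶ sub (pre φ W.1)),
        (lift g x ≫ (resAct a (pre φ W.1) (stable_pre a φ hcart.w W.1)).act) ≫ F = (g ≫ ρ) * (x ≫ F) := by
  obtain ⟨U, hU, hyU, -⟩ := exists_isAffineOpen_mem_and_subset (U := (⊤ : Y.left.Opens)) (x := y) trivial
  have hV : Stable a (pre φ U) := stable_pre a φ hcart.w U
  haveI : IsAffine (sub U).left := hU
  haveI : IsAffine (sub (pre φ U)).left := hU.preimage φ.left
  haveI : Flat (mapPre φ U).left :=
    MorphismProperty.of_isPullback (isPullback_morphismRestrict φ.left U).flip ‹Flat φ.left›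
  haveI : Surjective (mapPre φ U).left :=
    MorphismProperty.of_isPullback (isPullback_morphismRestrict φ.left U).flip ‹Surjective φ.left›
  obtain ⟨x₀, hx₀⟩ := Surjective.surj (f := (mapPre φ U).left) ⟨y, hyU⟩
  have hc := isPullback_mapPre a φ hcart U
  obtain ⟨M, hM, hxM⟩ := GLSpecial.exists_equivariant (repOf ρ) (resAct a (pre φ U) hV) (mapPre φ U) hc x₀
  let V := (sub (pre φ U)).left.basicOpen M.det
  have hPu : IsUnit (repOf ρ).P.det := IsUnit.of_mul_eq_one _ (repOf ρ).det_mul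
  have hstab : (resAct a (pre φ U) hV).act.left ⁻¹ᵁ V = (snd G (sub (pre φ U))).left ⁻¹ᵁ V := by
    have h1 : (resAct a (pre φ U) hV).act.left.appTop M.det =
        GLSpecial.pb (fst G _) (repOf ρ).P.det * (snd G (sub (pre φ U))).left.appTop M.det := by
      have h := congrArg Matrix.det hM
      rw [Matrix.det_mul] at h
      simp only [RepMat.pbM, ← RingHom.mapMatrix_apply, ← RingHom.map_det] at h
      exact h
    rw [Scheme.preimage_basicOpen_top, Scheme.preimage_basicOpen_top, h1, Scheme.basicOpen_mul,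
      Scheme.basicOpen_of_isUnit _ (hPu.map (GLSpecial.pb (fst G _))), top_inf_eq]
  have hsq : IsPullback (resAct a (pre φ U) hV).act.left (snd G (sub (pre φ U))).left (mapPre φ U).left
      (mapPre φ U).left := hc.map (Over.forget _)
  have hsub : Topology.IsQuotientMap (mapPre φ U).left.base := hgeo.subm _ _ _ (isPullback_morphismRestrict φ.left U)
  let W₀ : (sub U).left.Opens := ⟨(mapPre φ U).left '' (V : Set _), hsub.isOpen_preimage.1 (by
    convert V.2 using 1
    refine Set.Subset.antisymm ?_ (Set.subset_preimage_image _ _)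
    rintro x ⟨v, hv, he⟩
    obtain ⟨z, hz1, hz2⟩ := Scheme.exists_preimage_of_isPullback hsq x v he.symm
    have : z ∈ (resAct a (pre φ U) hV).act.left ⁻¹ᵁ V := by
      rw [hstab]; show (snd G _).left z ∈ V; rw [hz2]; exact hv
    exact hz1 ▸ this)⟩
  have hyW : (⟨y, hyU⟩ : U) ∈ W₀ := ⟨x₀, hxM, hx₀⟩
  obtain ⟨W, hW, hyW', hWle⟩ := exists_isAffineOpen_mem_and_subset (U := U.ι ''ᵁ W₀) (x := y)
    ⟨⟨y, hyU⟩, hyW, rfl⟩
  have hWU : W ≤ U := le_trans hWle (U.ι_image_le W₀)
  let ι₁ : sub (pre φ W) ⟶ sub (pre φ U) := Over.homMk (X.left.homOfLE (φ.left.preimage_mono hWU)) (by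
    show X.left.homOfLE (φ.left.preimage_mono hWU) ≫ (pre φ U).ι ≫ X.hom = (pre φ W).ι ≫ X.hom
    rw [Scheme.homOfLE_ι_assoc])
  have hι₁ : ι₁ ≫ incl _ = incl _ := Over.OverMorphism.ext (X.left.homOfLE_ι (φ.left.preimage_mono hWU))
  have hu : IsUnit (RepMat.pbM ι₁ M).det := by
    rw [show (RepMat.pbM ι₁ M).det = GLSpecial.pb ι₁ M.det from (RingHom.map_det _ _).symm]
    refine RingedSpace.isUnit_of_isUnit_germ _ _ _ fun x hx => (RingedSpace.mem_basicOpen _ _ x hx).1 ?_
    have h1 : (sub (pre φ W)).left.basicOpen (ι₁.left.appTop M.det) = ⊤ := by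
      rw [← Scheme.preimage_basicOpen_top, eq_top_iff]
      intro v _
      show ι₁.left v ∈ V
      obtain ⟨w, hw, hwe⟩ := hWle (show (φ.left ((pre φ W).ι v)) ∈ W from v.2)
      obtain ⟨x', hx', hxe⟩ := hw
      obtain ⟨z, hz1, hz2⟩ := Scheme.exists_preimage_of_isPullback hsq (ι₁.left v) x' (by
        rw [hxe]
        apply U.ι.isOpenEmbedding.injective
        refine Eq.trans ?_ hwe.symm
        exact congrArg (fun m => m.left v) (show (ι₁ ≫ mapPre φ U) ≫ incl U = incl (pre φ W) ≫ φ by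
          rw [Category.assoc, mapPre_incl, reassoc_of% hι₁]))
      have : z ∈ (resAct a (pre φ U) hV).act.left ⁻¹ᵁ V := by
        rw [hstab]; show (snd G _).left z ∈ V; rw [hz2]; exact hx'
      exact hz1 ▸ this
    exact h1.ge trivial
  obtain ⟨F, hF⟩ := exists_mat_eq (RepMat.pbM ι₁ M) hu
  refine ⟨⟨W, hW⟩, hyW', F, fun T g x => mat_injective ?_⟩
  have hι : (lift g x ≫ (resAct a (pre φ W) (stable_pre a φ hcart.w W)).act) ≫ ι₁ =
      lift g (x ≫ ι₁) ≫ (resAct a (pre φ U) hV).act := by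
    rw [← cancel_mono (incl _), Category.assoc, hι₁, lift_resAct_incl, lift_resAct_incl, Category.assoc, hι₁]
  rw [mat_comp, mat_mul, mat_comp, mat_comp, hF, ← RepMat.pbM_comp, ← RepMat.pbM_comp, hι, RepMat.pbM_comp, hM,
    GLSpecial.pbM_mul, ← RepMat.pbM_comp, ← RepMat.pbM_comp, lift_fst, lift_snd]
  rfl

/-- The quotient. -/
theorem exists_quotient {G H X Y : 𝒮} [GrpObj G] [IsAffine G.left] [LocallyOfFiniteType G.hom] [GrpObj H]
    (i : H ⟶ G) [IsMonHom i] [IsClosedImmersion i.left] (a : AlgGrp.Action G X) (φ : X ⟶ Y)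
    [Flat φ.left] [Surjective φ.left] [LocallyOfFiniteType X.hom] [LocallyOfFiniteType Y.hom] [QuasiCompact φ.left]
    (hsq : IsPullback a.act.left (snd G X).left φ.left φ.left) :
    ∃ D : Quot i a φ, IsSeparated D.ψ.left ∧ LocallyOfFiniteType D.ψ.left ∧ QuasiCompact D.ψ.left := by
  have hcart : IsPullback a.act (snd G X) φ φ :=
    IsPullback.of_map (Over.forget _) (Over.OverMorphism.ext hsq.w) hsq
  have hloc : NonAbH1.IsLocallyTrivialFor Scheme.fpqcPrecoverage (Over.mk φ.left : Over Y.left) :=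
    ⟨_, φ.left.singleton_mem_fpqcPrecoverage, by rintro _ _ ⟨⟩; exact ⟨𝟙 _, Category.id_comp _⟩⟩
  haveI : IsAffineHom G.hom := isAffineHom_of_isAffine _
  haveI : IsAffineHom φ.left := TorsorGeom.isAffineHom a φ hcart hloc
  have hgeo := TorsorGeom.isGeomQuot a φ hcart hloc
  haveI : IsLocallyNoetherian Y.left := LocallyOfFiniteType.isLocallyNoetherian Y.hom
  haveI : LocallyOfFiniteType (φ.left ≫ Y.hom) := by rw [Over.w]; infer_instance
  haveI : LocallyOfFiniteType φ.left := locallyOfFiniteType_of_comp φ.left Y.hom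
  haveI : LocallyOfFinitePresentation φ.left := inferInstance
  obtain ⟨n, ρ, hρ, hρc⟩ := exists_embedding G
  haveI := hρ
  haveI := hρc
  haveI : Algebra.FiniteType k (CoordGrp.GLb n k) := by
    show Algebra.FiniteType k (MvPolynomial (CoordGrp.GLPoly.Idx n) k)
    classical
    refine ⟨⟨Finset.univ.image MvPolynomial.X, ?_⟩⟩
    rw [Finset.coe_image, Finset.coe_univ, Set.image_univ]
    exact MvPolynomial.adjoin_range_X
  haveI : Algebra.FiniteType k (CoordGrp.GLn n k) :=
    Algebra.FiniteType.of_surjective (CoordGrp.GLn.mk n k) Ideal.Quotient.mk_surjective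
  haveI : LocallyOfFiniteType (AffQ.sp k (CoordGrp.GLn n k)).hom := by
    show LocallyOfFiniteType (Spec.map (CommRingCat.ofHom (algebraMap k (CoordGrp.GLn n k))))
    rw [HasRingHomProperty.Spec_iff (P := @LocallyOfFiniteType)]
    exact RingHom.finiteType_algebraMap.2 ‹Algebra.FiniteType k (CoordGrp.GLn n k)›
  haveI : IsAffineHom (AffQ.sp k (CoordGrp.GLn n k)).hom := isAffineHom_of_isAffine _
  haveI : IsAffineHom H.hom := by rw [← Over.w i]; infer_instance
  haveI : Flat H.hom := inferInstance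
  haveI : IsClosedImmersion (i ≫ ρ).left := by
    show IsClosedImmersion (i.left ≫ ρ.left)
    infer_instance
  obtain ⟨Q', p, hsep, hlft, hsurj, hflat, hlfp, hp, -, hQqc, -⟩ :=
    Groth.Agent.S5351.result k H (AffQ.sp k (CoordGrp.GLn n k)) (i ≫ ρ)
  haveI : QuasiCompact Q'.hom := hQqc inferInstance
  haveI : QuasiCompact (p.left ≫ Q'.hom) := by rw [Over.w]; infer_instance
  haveI : QuasiCompact p.left := QuasiCompact.of_comp p.left Q'.hom
  haveI := hsurj; haveI := hflat; haveI := hlfp; haveI := hsep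
  haveI : Mono i := Over.mono_of_mono_left _
  let good : Y.left.affineOpens → Prop := fun W => ∃ F : sub (pre φ W.1) ⟶ AffQ.sp k (CoordGrp.GLn n k),
      ∀ (T : 𝒮) (g : T ⟶ G) (x : T ⟶ sub (pre φ W.1)),
        (lift g x ≫ (resAct a (pre φ W.1) (stable_pre a φ hcart.w W.1)).act) ≫ F = (g ≫ ρ) * (x ≫ F)
  have hmono : ∀ U V : Y.left.affineOpens, U ≤ V → good V → good U := by
    rintro U V h ⟨F, hF⟩
    let ι₁ : sub (pre φ U.1) ⟶ sub (pre φ V.1) := Over.homMk (X.left.homOfLE (φ.left.preimage_mono h)) (by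
      show X.left.homOfLE (φ.left.preimage_mono h) ≫ (pre φ V.1).ι ≫ X.hom = (pre φ U.1).ι ≫ X.hom
      rw [Scheme.homOfLE_ι_assoc])
    have hι₁ : ι₁ ≫ incl _ = incl _ := Over.OverMorphism.ext (X.left.homOfLE_ι (φ.left.preimage_mono h))
    refine ⟨ι₁ ≫ F, fun T g x => ?_⟩
    have hι : (lift g x ≫ (resAct a (pre φ U.1) (stable_pre a φ hcart.w U.1)).act) ≫ ι₁ =
        lift g (x ≫ ι₁) ≫ (resAct a (pre φ V.1) (stable_pre a φ hcart.w V.1)).act := by
      rw [← cancel_mono (incl _), Category.assoc, hι₁, lift_resAct_incl, lift_resAct_incl, Category.assoc, hι₁]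
    rw [← Category.assoc, hι, hF, Category.assoc]
  have hcov : ∀ y : Y.left, ∃ W : Y.left.affineOpens, good W ∧ y ∈ W.1 := fun y => by
    obtain ⟨W, hy, hW⟩ := exists_nhd ρ a φ hcart hgeo y
    exact ⟨W, hW, hy⟩
  have hloc' : ∀ W : {W : Y.left.affineOpens // good W},
      ∃ D : Quot i (resAct a (pre φ W.1.1) (stable_pre a φ hcart.w W.1.1)) (mapPre φ W.1.1),
        IsSeparated D.ψ.left ∧ LocallyOfFiniteType D.ψ.left ∧ QuasiCompact D.ψ.left := fun W => by
    obtain ⟨F, hF⟩ := W.2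
    have hpb := isPullback_morphismRestrict φ.left W.1.1
    haveI : Flat (mapPre φ W.1.1).left := MorphismProperty.of_isPullback hpb.flip ‹Flat φ.left›
    haveI : Surjective (mapPre φ W.1.1).left := MorphismProperty.of_isPullback hpb.flip ‹Surjective φ.left›
    haveI : LocallyOfFinitePresentation (mapPre φ W.1.1).left :=
      MorphismProperty.of_isPullback hpb.flip ‹LocallyOfFinitePresentation φ.left›
    obtain ⟨D, h1, h2, h3⟩ := exists_quot i ρ p hp _ (mapPre φ W.1.1) (isPullback_mapPre a φ hcart W.1.1) F hF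
    exact ⟨D, h1, h2 hlft, h3 inferInstance⟩
  choose D hD using hloc'
  obtain ⟨Q, hQ⟩ := exists_glue i a φ hcart good hmono hcov D
  exact ⟨Q, hQ @IsSeparated inferInstance fun W => (hD W).1,
    hQ @LocallyOfFiniteType inferInstance fun W => (hD W).2.1,
    hQ @QuasiCompact inferInstance fun W => (hD W).2.2⟩

end

end Groth.Agent.H60.TorsQuot
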